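import Groth.Agent.FlatOpen.Descend
import Groth.Prelude.Def_RegImm
import Mathlib.RingTheory.Flat.Equalizer

/-!
# Transversally regular sequences and base change (EGA IV 11.3.7 / 19.8)

* `TRS R B fs G`: the images of `fs` in `G ⊗[R] B` are transversally regular relative to `G`
  (`trs_iff` compares with `RegImm.IsTransRegularSeq`).
* `TRS.baseChange`, `TRS.descend`.
-/

set_option autoImplicit false
set_option linter.style.haveILetI false
universe u

open TensorProduct Function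

namespace Groth.Agent.LimTR12

variable {R : Type u} [CommRing R] {B : Type u} [CommRing B] [Algebra R B]

/-- Zero in the base change to an algebra is reached at a finitely generated subalgebra. -/
theorem exists_fg_eq_zero {A M : Type u} [CommRing A] [Algebra R A] [AddCommGroup M] [Module R M]
    (S₁ : Subalgebra R A) (hS₁ : S₁.FG) (x : S₁ ⊗[R] M) (hx : S₁.val.toLinearMap.rTensor M x = 0) :
    ∃ (S₂ : Subalgebra R A) (h : S₁ ≤ S₂), S₂.FG ∧ (Subalgebra.inclusion h).toLinearMap.rTensor M x = 0 := by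
  classical
  let π : (M →₀ R) →ₗ[R] M := Finsupp.linearCombination R id
  have hπ : Surjective π := fun m => ⟨Finsupp.single m 1, by simp [π]⟩
  let K := LinearMap.ker π
  obtain ⟨y, hy⟩ := LinearMap.lTensor_surjective S₁ hπ x
  have hker : π.lTensor A (S₁.val.toLinearMap.rTensor _ y) = 0 := by
    rw [← LinearMap.comp_apply, LinearMap.lTensor_comp_rTensor, ← LinearMap.rTensor_comp_lTensor,
      LinearMap.comp_apply, hy, hx]
  have hex : Exact K.subtype π := LinearMap.exact_subtype_ker_map π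
  obtain ⟨z, hz⟩ := (lTensor_exact (M := ↥(LinearMap.ker π)) (N := M →₀ R) (P := M) A (f := K.subtype) (g := π) hex hπ _).1 hker
  obtain ⟨S', hS', z', hz'⟩ : ∃ S' : Subalgebra R A, S'.FG ∧ ∃ z' : S' ⊗[R] K,
      S'.val.toLinearMap.rTensor K z' = z := by
    clear hz
    induction z using TensorProduct.induction_on with
    | zero => exact ⟨⊥, Subalgebra.fg_bot, 0, map_zero _⟩
    | tmul a k =>
      exact ⟨Algebra.adjoin R {a}, ⟨{a}, by simp⟩, ⟨a, Algebra.subset_adjoin rfl⟩ ⊗ₜ k, rfl⟩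
    | add a b ha hb =>
      obtain ⟨Sa, hSa, za, hza⟩ := ha
      obtain ⟨Sb, hSb, zb, hzb⟩ := hb
      refine ⟨Sa ⊔ Sb, hSa.sup hSb, (Subalgebra.inclusion le_sup_left).toLinearMap.rTensor K za +
        (Subalgebra.inclusion le_sup_right).toLinearMap.rTensor K zb, ?_⟩
      rw [map_add, ← LinearMap.rTensor_comp_apply, ← LinearMap.rTensor_comp_apply]
      exact congrArg₂ (· + ·) hza hzb
  let S₂ := S₁ ⊔ S'
  have hinj : Injective (S₂.val.toLinearMap.rTensor (M →₀ R)) :=
    Module.Flat.rTensor_preserves_injective_linearMap _ Subtype.val_injective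
  have e : (Subalgebra.inclusion (le_sup_left : S₁ ≤ S₂)).toLinearMap.rTensor (M →₀ R) y =
      K.subtype.lTensor S₂ ((Subalgebra.inclusion (le_sup_right : S' ≤ S₂)).toLinearMap.rTensor K z') := by
    apply hinj
    rw [← LinearMap.rTensor_comp_apply, ← LinearMap.comp_apply (S₂.val.toLinearMap.rTensor (M →₀ R)) (K.subtype.lTensor S₂),
      LinearMap.rTensor_comp_lTensor, ← LinearMap.lTensor_comp_rTensor, LinearMap.comp_apply, ← LinearMap.rTensor_comp_apply]
    show S₁.val.toLinearMap.rTensor (M →₀ R) y = K.subtype.lTensor A (S'.val.toLinearMap.rTensor K z')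
    rw [hz', hz]
  refine ⟨S₂, le_sup_left, hS₁.sup hS', ?_⟩
  rw [← hy, ← LinearMap.comp_apply, LinearMap.rTensor_comp_lTensor, ← LinearMap.lTensor_comp_rTensor,
    LinearMap.comp_apply, e, ← LinearMap.lTensor_comp_apply]
  have : π ∘ₗ K.subtype = 0 := LinearMap.ext fun k => k.2
  rw [this, LinearMap.lTensor_zero, LinearMap.zero_apply]

/-- The kernel criterion: multiplication stays injective after base change when the cokernel is flat
and the kernel dies. -/
theorem injective_of_flat_coker {Q : Type u} [CommRing Q] [Algebra R Q] (f : Q)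
    [Module.Flat R (Q ⧸ Ideal.span {f})] (T : Set Q) (hT : Ideal.span T = LinearMap.ker (LinearMap.toSpanSingleton Q Q f))
    (G : Type u) [CommRing G] [Algebra R G] (h : ∀ k ∈ T, (1 : G) ⊗ₜ[R] k = 0) (y : G ⊗[R] Q)
    (hy : ((1 : G) ⊗ₜ[R] f) * y = 0) : y = 0 := by
  let μ : Q →ₗ[R] Q := LinearMap.mulLeft R f
  let μ' : Q →ₗ[R] LinearMap.range μ := μ.rangeRestrict
  let I := LinearMap.range μ
  have hinj : Injective (I.subtype.lTensor G) := by
    refine LinearMap.lTensor_injective_of_exact_of_flat (Ideal.Quotient.mkₐ R (Ideal.span {f})).toLinearMap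
      Ideal.Quotient.mk_surjective I.subtype Subtype.val_injective (fun x => ⟨fun hx => ?_, ?_⟩) G
    · obtain ⟨c, hc⟩ := Ideal.mem_span_singleton'.1 (Ideal.Quotient.eq_zero_iff_mem.1 hx)
      exact ⟨⟨x, c, (mul_comm f c).trans hc⟩, rfl⟩
    · rintro ⟨⟨_, c, rfl⟩, rfl⟩
      exact Ideal.Quotient.eq_zero_iff_mem.2 (Ideal.mul_mem_right _ _ (Ideal.mem_span_singleton_self f))
  have hμ : ∀ z : G ⊗[R] Q, μ.lTensor G z = ((1 : G) ⊗ₜ[R] f) * z := fun z => by
    induction z using TensorProduct.induction_on with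
    | zero => simp
    | tmul g q => simp [μ]
    | add a b ha hb => rw [map_add, mul_add, ha, hb]
  have hy' : μ'.lTensor G y = 0 := by
    apply hinj
    rw [← LinearMap.lTensor_comp_apply, map_zero]
    exact (hμ y).trans hy
  obtain ⟨z, rfl⟩ := (lTensor_exact G (LinearMap.exact_subtype_ker_map μ') μ.surjective_rangeRestrict _).1 hy'
  have hk : ∀ (g : G) (k : Q), k ∈ Ideal.span T → g ⊗ₜ[R] k = 0 := fun g k hk => by
    induction hk using Submodule.span_induction generalizing g with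
    | mem x hx => rw [← mul_one g, ← one_mul x, ← Algebra.TensorProduct.tmul_mul_tmul, h x hx, mul_zero]
    | zero => rw [tmul_zero]
    | add a b _ _ ha hb => rw [tmul_add, ha, hb, add_zero]
    | smul c x _ hx => rw [smul_eq_mul, ← one_mul g, ← Algebra.TensorProduct.tmul_mul_tmul, hx g, mul_zero]
  clear hy hy'
  induction z using TensorProduct.induction_on with
  | zero => rw [map_zero]
  | tmul g k =>
    refine hk g k.1 ?_
    rw [hT, LinearMap.mem_ker, LinearMap.toSpanSingleton_apply, smul_eq_mul, mul_comm]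
    exact congrArg Subtype.val (LinearMap.mem_ker.1 k.2)
  | add a b ha hb =>
    rw [map_add, ha, hb, add_zero]


/-! ## The predicate -/

variable (R B) in
/-- The images of `fs` in `G ⊗[R] B` are transversally regular relative to `G`, read on the quotients of `B`. -/
def TRS (fs : List B) (G : Type u) [CommRing G] [Algebra R G] : Prop :=
  (∀ j ≤ fs.length, Module.Flat G (G ⊗[R] (B ⧸ Ideal.ofList (fs.take j)))) ∧
    ∀ (j : ℕ) (hj : j < fs.length) (y : G ⊗[R] (B ⧸ Ideal.ofList (fs.take j))),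
      ((1 : G) ⊗ₜ[R] Ideal.Quotient.mk (Ideal.ofList (fs.take j)) fs[j]) * y = 0 → y = 0

/-- Reduction of `G ⊗ B` to `G ⊗ (B ⧸ I)`. -/
noncomputable abbrev red (G : Type u) [CommRing G] [Algebra R G] (I : Ideal B) :
    G ⊗[R] B →ₐ[G] G ⊗[R] (B ⧸ I) :=
  Algebra.TensorProduct.map (AlgHom.id G G) (Ideal.Quotient.mkₐ R I)

theorem red_surjective (G : Type u) [CommRing G] [Algebra R G] (I : Ideal B) : Surjective (red (R := R) G I) := by
  intro y
  induction y using TensorProduct.induction_on with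
  | zero => exact ⟨0, map_zero _⟩
  | tmul g q =>
    obtain ⟨b, rfl⟩ := Ideal.Quotient.mk_surjective q
    exact ⟨g ⊗ₜ[R] b, rfl⟩
  | add a b ha hb =>
    obtain ⟨a', rfl⟩ := ha
    obtain ⟨b', rfl⟩ := hb
    exact ⟨a' + b', map_add _ _ _⟩

theorem ker_red (G : Type u) [CommRing G] [Algebra R G] (I : Ideal B) :
    RingHom.ker (red (R := R) G I) = I.map (Algebra.TensorProduct.includeRight : B →ₐ[R] G ⊗[R] B) := by
  have h := Algebra.TensorProduct.lTensor_ker (A := G) (Ideal.Quotient.mkₐ R I) Ideal.Quotient.mk_surjective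
  rw [show RingHom.ker (Ideal.Quotient.mkₐ R I) = I from Ideal.mk_ker] at h
  exact h

theorem ofList_map_take (G : Type u) [CommRing G] [Algebra R G] (fs : List B) (j : ℕ) :
    Ideal.ofList ((fs.map (Algebra.TensorProduct.includeRight : B →ₐ[R] G ⊗[R] B)).take j) =
      RingHom.ker (red (R := R) G (Ideal.ofList (fs.take j))) := by
  rw [ker_red, ← List.map_take]
  exact (Ideal.map_ofList _ _).symm

theorem trs_iff (fs : List B) (G : Type u) [CommRing G] [Algebra R G] :
    RegImm.IsTransRegularSeq G (G ⊗[R] B) (fs.map (Algebra.TensorProduct.includeRight : B →ₐ[R] G ⊗[R] B)) ↔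
      TRS R B fs G := by
  have e : ∀ j, ((G ⊗[R] B) ⧸ Ideal.ofList ((fs.map (Algebra.TensorProduct.includeRight : B →ₐ[R] G ⊗[R] B)).take j))
      ≃ₐ[G] G ⊗[R] (B ⧸ Ideal.ofList (fs.take j)) := fun j =>
    (Ideal.quotientEquivAlgOfEq G (ofList_map_take G fs j)).trans
      (Ideal.quotientKerAlgEquivOfSurjective (red_surjective G _))
  have hreg : ∀ (j : ℕ) (hj : j < fs.length),
      IsSMulRegular ((G ⊗[R] B) ⧸ (Ideal.ofList ((fs.map (Algebra.TensorProduct.includeRight : B →ₐ[R] G ⊗[R] B)).take j) •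
          (⊤ : Submodule (G ⊗[R] B) (G ⊗[R] B)))) ((1 : G) ⊗ₜ[R] fs[j]) ↔
      ∀ y : G ⊗[R] (B ⧸ Ideal.ofList (fs.take j)),
        ((1 : G) ⊗ₜ[R] Ideal.Quotient.mk (Ideal.ofList (fs.take j)) fs[j]) * y = 0 → y = 0 := fun j hj => by
    rw [isSMulRegular_quotient_iff_mem_of_smul_mem, Ideal.smul_eq_mul, Ideal.mul_top, ofList_map_take,
      (red_surjective G _).forall]
    refine forall_congr' fun x => ?_
    rw [smul_eq_mul, RingHom.mem_ker, RingHom.mem_ker, map_mul, show red (R := R) G (Ideal.ofList (fs.take j)) ((1 : G) ⊗ₜ[R] fs[j]) =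
      (1 : G) ⊗ₜ[R] Ideal.Quotient.mk _ fs[j] from rfl]
  constructor
  · rintro ⟨⟨hw⟩, hflat⟩
    refine ⟨fun j hj => ?_, fun j hj => (hreg j hj).1 ?_⟩
    · haveI := hflat j (by simpa using hj)
      exact Module.Flat.of_linearEquiv (e j).symm.toLinearEquiv
    · have := hw j (by simpa using hj)
      simp only [List.getElem_map] at this
      exact this
  · rintro ⟨hflat, hr⟩
    refine ⟨⟨fun j hj => ?_⟩, fun j hj => ?_⟩
    · have hj' : j < fs.length := by simpa using hj
      simp only [List.getElem_map]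
      exact (hreg j hj').2 (hr j hj')
    · haveI := hflat j (by simpa using hj)
      exact Module.Flat.of_linearEquiv (e j).toLinearEquiv

/-- The successive quotient. -/
theorem exists_quotEquiv (fs : List B) (j : ℕ) (hj : j < fs.length) :
    Nonempty ((B ⧸ Ideal.ofList (fs.take (j + 1))) ≃ₐ[R]
      (B ⧸ Ideal.ofList (fs.take j)) ⧸ Ideal.span {Ideal.Quotient.mk (Ideal.ofList (fs.take j)) fs[j]}) := by
  refine ⟨(Ideal.quotientEquivAlgOfEq R ?_).trans (DoubleQuot.quotQuotEquivQuotSupₐ R (Ideal.ofList (fs.take j))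
    (Ideal.span {fs[j]})).symm |>.trans (Ideal.quotientEquivAlgOfEq R ?_)⟩
  · rw [List.take_succ_eq_append_getElem hj, Ideal.ofList_append, Ideal.ofList_singleton]
  · rw [Ideal.map_span, Set.image_singleton]
    rfl

/-- Flatness of the base change along an algebra map. -/
theorem flat_of_stage {G₁ G₂ : Type u} [CommRing G₁] [CommRing G₂] [Algebra R G₁] [Algebra R G₂] [Algebra G₁ G₂]
    [IsScalarTower R G₁ G₂] (M : Type u) [AddCommGroup M] [Module R M] [Module.Flat G₁ (G₁ ⊗[R] M)] :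
    Module.Flat G₂ (G₂ ⊗[R] M) :=
  Module.Flat.of_linearEquiv (AlgebraTensorModule.cancelBaseChange R G₁ G₂ G₂ M).symm

/-- Regularity propagates from a stage with flat cokernel once the annihilator dies. -/
theorem regular_of_stage {Q : Type u} [CommRing Q] [Algebra R Q] (f : Q) {G₁ G₂ : Type u} [CommRing G₁]
    [CommRing G₂] [Algebra R G₁] [Algebra R G₂] [Algebra G₁ G₂] [IsScalarTower R G₁ G₂]
    (hflat : Module.Flat G₁ (G₁ ⊗[R] (Q ⧸ Ideal.span {f}))) (T : Set (G₁ ⊗[R] Q))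
    (hT : Ideal.span T = LinearMap.ker (LinearMap.toSpanSingleton (G₁ ⊗[R] Q) (G₁ ⊗[R] Q) ((1 : G₁) ⊗ₜ[R] f)))
    (h : ∀ k ∈ T, (IsScalarTower.toAlgHom R G₁ G₂).toLinearMap.rTensor Q k = 0) (y : G₂ ⊗[R] Q)
    (hy : ((1 : G₂) ⊗ₜ[R] f) * y = 0) : y = 0 := by
  haveI : Module.Flat G₁ ((G₁ ⊗[R] Q) ⧸ Ideal.span {(1 : G₁) ⊗ₜ[R] f}) := by
    have hk : Ideal.span {(1 : G₁) ⊗ₜ[R] f} = RingHom.ker (red (R := R) G₁ (Ideal.span {f})) := by
      rw [ker_red, Ideal.map_span, Set.image_singleton]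
      rfl
    haveI := hflat
    exact Module.Flat.of_linearEquiv ((Ideal.quotientEquivAlgOfEq G₁ hk).trans
      (Ideal.quotientKerAlgEquivOfSurjective (red_surjective G₁ _))).toLinearEquiv
  let c := Algebra.TensorProduct.cancelBaseChange R G₁ G₂ G₂ Q
  have hc : ∀ z : G₁ ⊗[R] Q, c ((1 : G₂) ⊗ₜ[G₁] z) = (IsScalarTower.toAlgHom R G₁ G₂).toLinearMap.rTensor Q z := fun z => by
    induction z using TensorProduct.induction_on with
    | zero => simp
    | tmul g q => simp [c, Algebra.smul_def]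
    | add a b ha hb => rw [tmul_add, map_add, map_add, ha, hb]
  apply c.symm.injective
  rw [map_zero]
  refine injective_of_flat_coker (R := G₁) ((1 : G₁) ⊗ₜ[R] f) T hT G₂ (fun k hk => c.injective ?_) _ ?_
  · rw [hc, h k hk, map_zero]
  · apply c.injective
    rw [map_mul, c.apply_symm_apply, map_zero, hc]
    simpa using hy

/-- Transversal regularity from flatness at a stage and killed annihilators. -/
theorem TRS.of_stage {fs : List B} {G₁ G₂ : Type u} [CommRing G₁] [CommRing G₂] [Algebra R G₁] [Algebra R G₂]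
    [Algebra G₁ G₂] [IsScalarTower R G₁ G₂]
    (hflat : ∀ j ≤ fs.length, Module.Flat G₁ (G₁ ⊗[R] (B ⧸ Ideal.ofList (fs.take j))))
    (hkill : ∀ (j : ℕ) (hj : j < fs.length), ∃ T : Set (G₁ ⊗[R] (B ⧸ Ideal.ofList (fs.take j))),
      Ideal.span T = LinearMap.ker (LinearMap.toSpanSingleton _ _
        ((1 : G₁) ⊗ₜ[R] Ideal.Quotient.mk (Ideal.ofList (fs.take j)) fs[j])) ∧
      ∀ k ∈ T, (IsScalarTower.toAlgHom R G₁ G₂).toLinearMap.rTensor _ k = 0) : TRS R B fs G₂ := by
  refine ⟨fun j hj => ?_, fun j hj y hy => ?_⟩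
  · haveI := hflat j hj
    exact flat_of_stage (G₁ := G₁) _
  · obtain ⟨e⟩ := exists_quotEquiv (R := R) fs j hj
    haveI := hflat (j + 1) hj
    obtain ⟨T, hT, hT0⟩ := hkill j hj
    exact regular_of_stage (G₁ := G₁) _ (Module.Flat.of_linearEquiv
      (Algebra.TensorProduct.congr (AlgEquiv.refl : G₁ ≃ₐ[G₁] G₁) e).symm.toLinearEquiv) T hT hT0 y hy

/-- Transversal regularity is stable under base change. -/
theorem TRS.baseChange {fs : List B} {G₁ G₂ : Type u} [CommRing G₁] [CommRing G₂] [Algebra R G₁] [Algebra R G₂]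
    [Algebra G₁ G₂] [IsScalarTower R G₁ G₂] (h : TRS R B fs G₁) : TRS R B fs G₂ := by
  refine TRS.of_stage h.1 fun j hj => ⟨∅, ?_, fun k hk => absurd hk (Set.notMem_empty k)⟩
  rw [Ideal.span_empty, eq_comm, LinearMap.ker_eq_bot']
  intro m hm
  exact h.2 j hj m (by rw [mul_comm]; exact hm)

/-- Vanishing after an inclusion persists. -/
theorem rTensor_inclusion_eq_zero {A M : Type u} [CommRing A] [Algebra R A] [AddCommGroup M] [Module R M]
    {S U T : Subalgebra R A} (h : S ≤ U) (h' : U ≤ T) (h'' : S ≤ T) (k : S ⊗[R] M)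
    (hk : (Subalgebra.inclusion h).toLinearMap.rTensor M k = 0) :
    (Subalgebra.inclusion h'').toLinearMap.rTensor M k = 0 := by
  have e : (Subalgebra.inclusion h'').toLinearMap =
      (Subalgebra.inclusion h').toLinearMap ∘ₗ (Subalgebra.inclusion h).toLinearMap := rfl
  rw [e, LinearMap.rTensor_comp_apply, hk, map_zero]

/-- Transversal regularity descends to a finitely generated subalgebra. -/
theorem TRS.descend [IsNoetherianRing R] [Algebra.FiniteType R B] {fs : List B} {A : Type u} [CommRing A]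
    [Algebra R A] (h : TRS R B fs A) : ∃ S : Subalgebra R A, S.FG ∧ TRS R B fs S := by
  classical
  let ι := {S : Subalgebra R A // S.FG}
  haveI : Algebra.FinitePresentation R B := Algebra.FinitePresentation.of_finiteType.1 inferInstance
  have hstage : ∀ j : ℕ, j ≤ fs.length →
      ∃ S : Subalgebra R A, S.FG ∧ Module.Flat S (S ⊗[R] (B ⧸ Ideal.ofList (fs.take j))) := by
    intro j hj
    haveI := h.1 j hj
    haveI : Algebra.FiniteType R (B ⧸ Ideal.ofList (fs.take j)) := inferInstance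
    haveI : Algebra.FinitePresentation R (B ⧸ Ideal.ofList (fs.take j)) :=
      Algebra.FinitePresentation.of_finiteType.1 inferInstance
    obtain ⟨⟨S, hS⟩, hflat⟩ := FlatOpen.exists_stage_flat (A₀ := R) (fun i : ι => i.1)
      (fun _ _ hij => (Subalgebra.inclusion (show _ ≤ _ from hij)).toRingHom) (fun _ _ _ => rfl) A
      (by
        refine ⟨⟨fun i j => ⟨⟨i.1 ⊔ j.1, i.2.sup j.2⟩, le_sup_left (a := i.1) (b := j.1),
          le_sup_right (a := i.1) (b := j.1)⟩⟩, ⟨⟨⊥, Subalgebra.fg_bot⟩⟩, fun _ => rfl,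
          fun _ _ _ _ _ => rfl, fun _ _ _ => rfl, fun a => ?_, fun i x hx => ⟨i, le_rfl, ?_⟩⟩
        · exact ⟨⟨Algebra.adjoin R {a}, ⟨{a}, by simp⟩⟩, ⟨a, Algebra.subset_adjoin rfl⟩, rfl⟩
        · exact Subtype.ext hx)
      (B₀ := B ⧸ Ideal.ofList (fs.take j)) (B ⧸ Ideal.ofList (fs.take j))
    exact ⟨S, hS, hflat⟩
  choose! S hS hflat using hstage
  obtain ⟨S₁, hS₁, hle₁⟩ : ∃ S₁ : Subalgebra R A, S₁.FG ∧ ∀ j ≤ fs.length, S j ≤ S₁ :=
    ⟨(Finset.range (fs.length + 1)).sup S,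
      Finset.sup_induction (p := fun T : Subalgebra R A => T.FG) Subalgebra.fg_bot
        (fun _ ha _ hb => ha.sup hb) (fun j hj => hS j (Nat.lt_succ_iff.1 (Finset.mem_range.1 hj))),
      fun j hj => Finset.le_sup (f := S) (Finset.mem_range.2 (Nat.lt_succ_iff.2 hj))⟩
  have hflat₁ : ∀ j ≤ fs.length, Module.Flat S₁ (S₁ ⊗[R] (B ⧸ Ideal.ofList (fs.take j))) := fun j hj => by
    letI := (Subalgebra.inclusion (hle₁ j hj)).toRingHom.toAlgebra
    haveI : IsScalarTower R (S j) S₁ := IsScalarTower.of_algebraMap_eq fun _ => rfl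
    haveI := hflat j hj
    exact flat_of_stage (G₁ := S j) _
  haveI : Algebra.FiniteType R S₁ := (Subalgebra.fg_iff_finiteType S₁).mp hS₁
  haveI : IsNoetherianRing S₁ := Algebra.FiniteType.isNoetherianRing R S₁
  have hgens : ∀ (j : ℕ) (hj : j < fs.length), ∃ T : Finset (S₁ ⊗[R] (B ⧸ Ideal.ofList (fs.take j))),
      Ideal.span (T : Set (S₁ ⊗[R] (B ⧸ Ideal.ofList (fs.take j)))) = LinearMap.ker (LinearMap.toSpanSingleton _ _
        ((1 : S₁) ⊗ₜ[R] Ideal.Quotient.mk (Ideal.ofList (fs.take j)) fs[j])) ∧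
      ∀ k ∈ T, S₁.val.toLinearMap.rTensor _ k = 0 := fun j hj => by
    haveI : IsNoetherianRing (S₁ ⊗[R] (B ⧸ Ideal.ofList (fs.take j))) :=
      Algebra.FiniteType.isNoetherianRing S₁ _
    obtain ⟨T, hT⟩ := IsNoetherian.noetherian (LinearMap.ker (LinearMap.toSpanSingleton (S₁ ⊗[R] (B ⧸ Ideal.ofList (fs.take j)))
      _ ((1 : S₁) ⊗ₜ[R] Ideal.Quotient.mk (Ideal.ofList (fs.take j)) fs[j])))
    refine ⟨T, hT, fun k hk => h.2 j hj _ ?_⟩
    have hk' : k * ((1 : S₁) ⊗ₜ[R] Ideal.Quotient.mk (Ideal.ofList (fs.take j)) fs[j]) = 0 :=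
      LinearMap.mem_ker.1 ((le_of_eq hT) (Submodule.subset_span hk))
    have := congrArg (Algebra.TensorProduct.map S₁.val (AlgHom.id R (B ⧸ Ideal.ofList (fs.take j)))) hk'
    rw [map_zero, map_mul, Algebra.TensorProduct.map_tmul, map_one, mul_comm] at this
    exact this
  choose T hT hT0 using hgens
  have hkill : ∀ (j : ℕ) (hj : j < fs.length) (k : _) (_ : k ∈ T j hj), ∃ (S₂ : Subalgebra R A) (hle : S₁ ≤ S₂), S₂.FG ∧
      (Subalgebra.inclusion hle).toLinearMap.rTensor (B ⧸ Ideal.ofList (fs.take j)) k = 0 :=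
    fun j hj k hk => exists_fg_eq_zero S₁ hS₁ k (hT0 j hj k hk)
  choose U hU hUfg hU0 using hkill
  obtain ⟨S₂, hS₂, hle₂, hleU⟩ : ∃ S₂ : Subalgebra R A, S₂.FG ∧ S₁ ≤ S₂ ∧
      ∀ (j : ℕ) (hj : j < fs.length) (k : _) (hk : k ∈ T j hj), U j hj k hk ≤ S₂ := by
    refine ⟨S₁ ⊔ (Finset.univ : Finset (Fin fs.length)).sup fun j => (T j.1 j.2).attach.sup fun k => U j.1 j.2 k.1 k.2,
      hS₁.sup (Finset.sup_induction (p := fun T : Subalgebra R A => T.FG) Subalgebra.fg_bot
        (fun _ ha _ hb => ha.sup hb) fun j _ => Finset.sup_induction (p := fun T : Subalgebra R A => T.FG)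
          Subalgebra.fg_bot (fun _ ha _ hb => ha.sup hb) fun k _ => hUfg j.1 j.2 k.1 k.2),
      le_sup_left, fun j hj k hk => ?_⟩
    have h1 : U j hj k hk ≤ (T j hj).attach.sup fun k => U j hj k.1 k.2 :=
      Finset.le_sup (f := fun k : T j hj => U j hj k.1 k.2) (Finset.mem_attach _ ⟨k, hk⟩)
    have h2 := Finset.le_sup (f := fun j : Fin fs.length => (T j.1 j.2).attach.sup fun k => U j.1 j.2 k.1 k.2)
      (Finset.mem_univ ⟨j, hj⟩)
    exact (h1.trans h2).trans le_sup_right
  letI := (Subalgebra.inclusion hle₂).toRingHom.toAlgebra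
  haveI : IsScalarTower R S₁ S₂ := IsScalarTower.of_algebraMap_eq fun _ => rfl
  have he : (IsScalarTower.toAlgHom R S₁ S₂) = Subalgebra.inclusion hle₂ := AlgHom.ext fun _ => rfl
  refine ⟨S₂, hS₂, TRS.of_stage (G₁ := S₁) hflat₁ fun j hj => ⟨_, hT j hj, fun k hk => ?_⟩⟩
  rw [he]
  exact rTensor_inclusion_eq_zero (hU j hj k hk) (hleU j hj k hk) hle₂ k (hU0 j hj k hk)

end Groth.Agent.LimTR12
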