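import Groth.Agent.LimTR12.Stage

/-!
# Ideals locally generated by transversally regular sequences descend to stages
-/

set_option autoImplicit false
set_option linter.style.haveILetI false
universe u

open TensorProduct Function

attribute [local instance] Algebra.TensorProduct.rightAlgebra

namespace Groth.Agent.LimTR12

/-- Composing extensions of an ideal. -/
theorem map_map' {A B C F : Type u} [CommRing A] [CommRing B] [CommRing C] [FunLike F A B] [RingHomClass F A B]
    (f : F) (g : B →+* C) (I : Ideal A) : (I.map f).map g = I.map (g.comp (f : A →+* B)) := by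
  rw [← Ideal.map_coe f, Ideal.map_map]

/-- `J` is generated by a transversally regular sequence on `D(g)`. -/
def Good (G C : Type u) [CommRing G] [CommRing C] [Algebra G C] (J : Ideal C) (g : C) : Prop :=
  ∃ rs : List (Localization.Away g), RegImm.IsTransRegularSeq G (Localization.Away g) rs ∧
    J.map (algebraMap C (Localization.Away g)) = Ideal.ofList rs

/-- `V(J)` is covered by such open sets. -/
def Cov (G C : Type u) [CommRing G] [CommRing C] [Algebra G C] (J : Ideal C) : Prop :=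
  ∀ q : PrimeSpectrum C, J ≤ q.asIdeal → ∃ g, g ∉ q.asIdeal ∧ Good G C J g

/-- Base change of a transversally regular sequence. -/
theorem isTransRegularSeq_tensor {G G' L : Type u} [CommRing G] [CommRing G'] [CommRing L] [Algebra G G']
    [Algebra G L] {rs : List L} (h : RegImm.IsTransRegularSeq G L rs) :
    RegImm.IsTransRegularSeq G' (G' ⊗[G] L) (rs.map (Algebra.TensorProduct.includeRight : L →ₐ[G] G' ⊗[G] L)) := by
  refine (trs_iff rs G').2 (TRS.baseChange (G₁ := G) ((trs_iff rs G).1 ?_))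
  exact isTransRegularSeq_congr (Algebra.TensorProduct.lid G L).symm (List.map_congr_left fun x _ => by simp) h

/-- Localising a pushout at one element. -/
theorem exists_away_pushout {G G' C C' : Type u} [CommRing G] [CommRing G'] [CommRing C] [CommRing C']
    [Algebra G G'] [Algebra G C] [Algebra G C'] [Algebra G' C'] [Algebra C C'] [IsScalarTower G C C']
    [IsScalarTower G G' C'] [Algebra.IsPushout G G' C C'] (g : C) :
    ∃ (_ : Algebra (Localization.Away g) (Localization.Away (algebraMap C C' g)))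
      (_ : IsScalarTower G (Localization.Away g) (Localization.Away (algebraMap C C' g))),
      Algebra.IsPushout G G' (Localization.Away g) (Localization.Away (algebraMap C C' g)) ∧
      ∀ c : C, algebraMap (Localization.Away g) (Localization.Away (algebraMap C C' g)) (algebraMap C _ c) =
        algebraMap C' _ (algebraMap C C' c) := by
  let L := Localization.Away g
  let L' := Localization.Away (algebraMap C C' g)
  letI : Algebra L L' := (IsLocalization.Away.map L L' (algebraMap C C') g).toAlgebra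
  have hc : ∀ c : C, algebraMap L L' (algebraMap C L c) = algebraMap C' L' (algebraMap C C' c) := fun c => by
    show IsLocalization.Away.map L L' (algebraMap C C') g (algebraMap C L c) = _
    rw [IsLocalization.Away.map, IsLocalization.map_eq]
  haveI : IsScalarTower C L L' := IsScalarTower.of_algebraMap_eq fun c => by
    rw [hc, IsScalarTower.algebraMap_apply C C' L']
  haveI : IsScalarTower G L L' := IsScalarTower.of_algebraMap_eq fun r => by
    rw [IsScalarTower.algebraMap_apply G C L, hc, IsScalarTower.algebraMap_apply G C' L',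
      IsScalarTower.algebraMap_apply G C C']
  haveI : IsLocalization (Algebra.algebraMapSubmonoid C' (Submonoid.powers g)) L' := by
    rw [Algebra.algebraMapSubmonoid, Submonoid.map_powers]
    infer_instance
  haveI h1 : Algebra.IsPushout C C' L L' := Algebra.isPushout_of_isLocalization (Submonoid.powers g) _ _ _
  haveI h2 : Algebra.IsPushout C L C' L' := h1.symm
  haveI h3 : Algebra.IsPushout G C G' C' := Algebra.IsPushout.symm inferInstance
  haveI h4 : Algebra.IsPushout G L G' L' := (Algebra.IsPushout.comp_iff G C G' C' (T := L) (T' := L')).2 h2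
  exact ⟨inferInstance, inferInstance, h4.symm, hc⟩

/-- Transport of a transversally regular sequence along a pushout. -/
theorem isTransRegularSeq_pushout {G G' L L' : Type u} [CommRing G] [CommRing G'] [CommRing L] [CommRing L']
    [Algebra G G'] [Algebra G L] [Algebra G L'] [Algebra G' L'] [Algebra L L'] [IsScalarTower G L L']
    [IsScalarTower G G' L'] [Algebra.IsPushout G G' L L'] {rs : List L} (h : RegImm.IsTransRegularSeq G L rs) :
    RegImm.IsTransRegularSeq G' L' (rs.map (algebraMap L L')) := by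
  refine isTransRegularSeq_congr (Algebra.IsPushout.equiv G G' L L') ?_ (isTransRegularSeq_tensor h)
  rw [List.map_map]
  refine List.map_congr_left fun x _ => ?_
  show Algebra.IsPushout.equiv G G' L L' ((1 : G') ⊗ₜ[G] x) = _
  rw [← Algebra.IsPushout.equiv_symm_algebraMap_right G G' L L', AlgEquiv.apply_symm_apply]

theorem Good.baseChange {G G' C C' : Type u} [CommRing G] [CommRing G'] [CommRing C] [CommRing C']
    [Algebra G G'] [Algebra G C] [Algebra G C'] [Algebra G' C'] [Algebra C C'] [IsScalarTower G C C']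
    [IsScalarTower G G' C'] [Algebra.IsPushout G G' C C'] {J : Ideal C} {g : C} (h : Good G C J g) :
    Good G' C' (J.map (algebraMap C C')) (algebraMap C C' g) := by
  obtain ⟨rs, hrs, hJ⟩ := h
  obtain ⟨_, _, _, hc⟩ := exists_away_pushout (G := G) (G' := G') (C' := C') g
  refine ⟨_, isTransRegularSeq_pushout (G' := G') (L' := Localization.Away (algebraMap C C' g)) hrs, ?_⟩
  rw [Ideal.map_map, ← Ideal.map_ofList, ← hJ, Ideal.map_map]
  exact congrArg (Ideal.map · J) (RingHom.ext fun c => (hc c).symm)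

theorem Cov.baseChange {G G' C C' : Type u} [CommRing G] [CommRing G'] [CommRing C] [CommRing C']
    [Algebra G G'] [Algebra G C] [Algebra G C'] [Algebra G' C'] [Algebra C C'] [IsScalarTower G C C']
    [IsScalarTower G G' C'] [Algebra.IsPushout G G' C C'] {J : Ideal C} (h : Cov G C J) :
    Cov G' C' (J.map (algebraMap C C')) := fun q hq => by
  obtain ⟨g, hg, hgood⟩ := h ⟨q.asIdeal.comap (algebraMap C C'), Ideal.comap_isPrime _ _⟩ (Ideal.map_le_iff_le_comap.1 hq)
  exact ⟨_, hg, hgood.baseChange⟩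

/-- Invariance under isomorphisms. -/
theorem Cov.congr {G C C' : Type u} [CommRing G] [CommRing C] [CommRing C'] [Algebra G C] [Algebra G C']
    (e : C ≃ₐ[G] C') {J : Ideal C} {J' : Ideal C'} (hJ : J.map e = J') (h : Cov G C J) : Cov G C' J' := by
  letI := e.toAlgHom.toRingHom.toAlgebra
  haveI : IsScalarTower G C C' := IsScalarTower.of_algebraMap_eq fun r => (e.commutes r).symm
  haveI : Algebra.IsPushout G G C C' :=
    ⟨IsBaseChange.ofEquiv e.toLinearEquiv⟩
  subst hJ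
  exact h.baseChange (G' := G)

/-- Descent of a good sequence, abstractly. -/
theorem descend_core {R₀ L₀ A L : Type u} [CommRing R₀] [IsNoetherianRing R₀] [CommRing L₀] [Algebra R₀ L₀]
    [Algebra.FiniteType R₀ L₀] [CommRing A] [Algebra R₀ A] [CommRing L] [Algebra R₀ L] [Algebra A L] [Algebra L₀ L]
    [IsScalarTower R₀ L₀ L] [IsScalarTower R₀ A L] [Algebra.IsPushout R₀ A L₀ L] (rs₀ : List L₀) (gJ : Finset L₀)
    (h : RegImm.IsTransRegularSeq A L (rs₀.map (algebraMap L₀ L)))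
    (hJ : (Ideal.span (gJ : Set L₀)).map (algebraMap L₀ L) = Ideal.ofList (rs₀.map (algebraMap L₀ L))) :
    ∃ S : Subalgebra R₀ A, S.FG ∧ ∀ (LS : Type u) [CommRing LS] [Algebra R₀ LS] [Algebra S LS] [Algebra L₀ LS]
      [IsScalarTower R₀ L₀ LS] [IsScalarTower R₀ S LS] [Algebra.IsPushout R₀ S L₀ LS],
      RegImm.IsTransRegularSeq S LS (rs₀.map (algebraMap L₀ LS)) ∧
        (Ideal.span (gJ : Set L₀)).map (algebraMap L₀ LS) = Ideal.ofList (rs₀.map (algebraMap L₀ LS)) := by
  classical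
  let E := Algebra.IsPushout.equiv R₀ A L₀ L
  have hE : ∀ x : L₀, E ((1 : A) ⊗ₜ[R₀] x) = algebraMap L₀ L x := fun x => by
    rw [← Algebra.IsPushout.equiv_symm_algebraMap_right R₀ A L₀ L, AlgEquiv.apply_symm_apply]
  have hEs : ∀ x : L₀, E.symm (algebraMap L₀ L x) = (1 : A) ⊗ₜ[R₀] x := fun x => by
    rw [← hE, AlgEquiv.symm_apply_apply]
  have hT : TRS R₀ L₀ rs₀ A := by
    refine (trs_iff rs₀ A).1 (isTransRegularSeq_congr E.symm ?_ h)
    rw [List.map_map]
    exact List.map_congr_left fun x _ => hEs x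
  obtain ⟨S₂, hS₂, hT₂⟩ := hT.descend
  have hdie : ∀ (P : Ideal L₀) (x : L₀), algebraMap L₀ L x ∈ P.map (algebraMap L₀ L) →
      ∃ S : Subalgebra R₀ A, S.FG ∧ ∀ S' : Subalgebra R₀ A, S ≤ S' →
        (1 : S') ⊗ₜ[R₀] x ∈ P.map (Algebra.TensorProduct.includeRight : L₀ →ₐ[R₀] S' ⊗[R₀] L₀) := by
    intro P x hx
    have h1 : (1 : A) ⊗ₜ[R₀] x ∈ P.map (Algebra.TensorProduct.includeRight : L₀ →ₐ[R₀] A ⊗[R₀] L₀) := by
      have h2 := Ideal.mem_map_of_mem (E.symm : L →+* A ⊗[R₀] L₀) hx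
      rw [Ideal.map_map] at h2
      rw [← hEs x]
      refine SetLike.le_def.1 (le_of_eq ?_) h2
      rw [← Ideal.map_coe (Algebra.TensorProduct.includeRight : L₀ →ₐ[R₀] A ⊗[R₀] L₀)]
      exact congrArg (Ideal.map · P) (RingHom.ext hEs)
    rw [← ker_red, RingHom.mem_ker] at h1
    obtain ⟨S, hle, hS, h0⟩ := exists_fg_eq_zero (R := R₀) (M := L₀ ⧸ P) (⊥ : Subalgebra R₀ A) Subalgebra.fg_bot
      ((1 : (⊥ : Subalgebra R₀ A)) ⊗ₜ[R₀] Ideal.Quotient.mk P x) h1
    refine ⟨S, hS, fun S' hS' => ?_⟩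
    rw [← ker_red, RingHom.mem_ker]
    have h3 := congrArg ((Subalgebra.inclusion hS').toLinearMap.rTensor (L₀ ⧸ P)) h0
    rw [map_zero] at h3
    exact h3
  have hrsmap : ∀ (L' : Type u) [CommRing L'] [Algebra L₀ L'],
      (Ideal.ofList rs₀).map (algebraMap L₀ L') = Ideal.ofList (rs₀.map (algebraMap L₀ L')) := fun L' _ _ =>
    Ideal.map_ofList _ _
  have hd₁ : ∀ x ∈ rs₀.toFinset, ∃ S : Subalgebra R₀ A, S.FG ∧ ∀ S' : Subalgebra R₀ A, S ≤ S' →
      (1 : S') ⊗ₜ[R₀] x ∈ (Ideal.span (gJ : Set L₀)).map (Algebra.TensorProduct.includeRight : L₀ →ₐ[R₀] S' ⊗[R₀] L₀) := fun x hx =>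
    hdie _ x (by rw [hJ, ← hrsmap]; exact Ideal.mem_map_of_mem _ (Ideal.subset_span (List.mem_toFinset.1 hx)))
  have hd₂ : ∀ i ∈ gJ, ∃ S : Subalgebra R₀ A, S.FG ∧ ∀ S' : Subalgebra R₀ A, S ≤ S' →
      (1 : S') ⊗ₜ[R₀] i ∈
        (Ideal.ofList rs₀).map (Algebra.TensorProduct.includeRight : L₀ →ₐ[R₀] S' ⊗[R₀] L₀) := fun i hi =>
    hdie _ _ (by rw [hrsmap, ← hJ]; exact Ideal.mem_map_of_mem _ (Ideal.subset_span hi))
  choose! U₁ hU₁ hU₁' using hd₁
  choose! U₂ hU₂ hU₂' using hd₂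
  obtain ⟨S, hS, hle₂, hle₁', hle₂'⟩ : ∃ S : Subalgebra R₀ A, S.FG ∧ S₂ ≤ S ∧
      (∀ x ∈ rs₀.toFinset, U₁ x ≤ S) ∧ ∀ i ∈ gJ, U₂ i ≤ S :=
    ⟨S₂ ⊔ rs₀.toFinset.sup U₁ ⊔ gJ.sup U₂,
      (hS₂.sup (Finset.sup_induction (p := fun S : Subalgebra R₀ A => S.FG) Subalgebra.fg_bot
        (fun _ ha _ hb => ha.sup hb) hU₁)).sup (Finset.sup_induction (p := fun S : Subalgebra R₀ A => S.FG)
          Subalgebra.fg_bot (fun _ ha _ hb => ha.sup hb) hU₂),
      le_sup_left.trans le_sup_left, fun x hx => ((Finset.le_sup (f := U₁) hx).trans le_sup_right).trans le_sup_left,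
      fun i hi => (Finset.le_sup (f := U₂) hi).trans le_sup_right⟩
  refine ⟨S, hS, fun LS _ _ _ _ _ _ _ => ?_⟩
  let ES := Algebra.IsPushout.equiv R₀ S L₀ LS
  have hES : ∀ x : L₀, ES ((1 : S) ⊗ₜ[R₀] x) = algebraMap L₀ LS x := fun x => by
    rw [← Algebra.IsPushout.equiv_symm_algebraMap_right R₀ S L₀ LS, AlgEquiv.apply_symm_apply]
  have hTS : TRS R₀ L₀ rs₀ S := by
    letI := (Subalgebra.inclusion hle₂).toRingHom.toAlgebra
    haveI : IsScalarTower R₀ S₂ S := IsScalarTower.of_algebraMap_eq fun _ => rfl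
    exact hT₂.baseChange
  have hmem : ∀ (P : Ideal L₀) (x : L₀),
      (1 : S) ⊗ₜ[R₀] x ∈ P.map (Algebra.TensorProduct.includeRight : L₀ →ₐ[R₀] S ⊗[R₀] L₀) →
        algebraMap L₀ LS x ∈ P.map (algebraMap L₀ LS) := fun P x hx => by
    have h2 := Ideal.mem_map_of_mem (ES : S ⊗[R₀] L₀ →+* LS) hx
    rw [← hES x]
    refine SetLike.le_def.1 (le_of_eq ?_) h2
    rw [map_map']
    exact congrArg (Ideal.map · P) (RingHom.ext hES)
  refine ⟨isTransRegularSeq_congr ES ?_ ((trs_iff rs₀ S).2 hTS), ?_⟩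
  · rw [List.map_map]
    exact List.map_congr_left fun x _ => hES x
  · rw [← hrsmap]
    refine le_antisymm ?_ ?_
    · rw [Ideal.map_span, Ideal.span_le]
      rintro _ ⟨i, hi, rfl⟩
      exact hmem _ _ (hU₂' i hi S (hle₂' i hi))
    · rw [Ideal.map_le_iff_le_comap, Ideal.ofList, Ideal.span_le]
      intro x hx
      exact hmem _ _ (hU₁' x (List.mem_toFinset.2 hx) S (hle₁' x (List.mem_toFinset.2 hx)))

section Tensor

variable {R : Type u} [CommRing R] {B : Type u} [CommRing B] [Algebra R B]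

/-- The ideal in a base change. -/
noncomputable abbrev extI (G : Type u) [CommRing G] [Algebra R G] (I : Ideal B) : Ideal (G ⊗[R] B) :=
  I.map (Algebra.TensorProduct.includeRight : B →ₐ[R] G ⊗[R] B)

/-- The map between base changes. -/
noncomputable abbrev tmap {G G' : Type u} [CommRing G] [CommRing G'] [Algebra R G] [Algebra R G'] (φ : G →ₐ[R] G') :
    G ⊗[R] B →ₐ[R] G' ⊗[R] B :=
  Algebra.TensorProduct.map φ (AlgHom.id R B)

theorem extI_map {G G' : Type u} [CommRing G] [CommRing G'] [Algebra R G] [Algebra R G'] (φ : G →ₐ[R] G')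
    (I : Ideal B) : (extI G I).map (tmap φ) = extI (R := R) G' I := by
  rw [extI, extI, Ideal.map_mapₐ, Algebra.TensorProduct.map_comp_includeRight, AlgHom.comp_id]

/-- `Good` along a map of base changes. -/
theorem Good.mapBase {G G' : Type u} [CommRing G] [CommRing G'] [Algebra R G] [Algebra R G'] (φ : G →ₐ[R] G')
    {I : Ideal B} {g : G ⊗[R] B} (h : Good G (G ⊗[R] B) (extI G I) g) :
    Good G' (G' ⊗[R] B) (extI G' I) (LimTR12.tmap φ g) := by
  letI := φ.toRingHom.toAlgebra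
  haveI : IsScalarTower R G G' := IsScalarTower.of_algebraMap_eq fun r => (φ.commutes r).symm
  letI := (LimTR12.tmap (B := B) φ).toRingHom.toAlgebra
  haveI : IsScalarTower G (G ⊗[R] B) (G' ⊗[R] B) := IsScalarTower.of_algebraMap_eq fun x => by
    show algebraMap G (G' ⊗[R] B) x = LimTR12.tmap φ (x ⊗ₜ 1)
    simp [LimTR12.tmap]
    rfl
  haveI : IsScalarTower B (G ⊗[R] B) (G' ⊗[R] B) := IsScalarTower.of_algebraMap_eq fun b => by
    show (1 : G') ⊗ₜ[R] b = LimTR12.tmap φ ((1 : G) ⊗ₜ[R] b)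
    simp [LimTR12.tmap]
  haveI : Algebra.IsPushout G G' (G ⊗[R] B) (G' ⊗[R] B) :=
    (Algebra.IsPushout.comp_iff R G B (G ⊗[R] B) (T := G') (T' := G' ⊗[R] B)).1 inferInstance
  have := h.baseChange (G' := G') (C' := G' ⊗[R] B)
  rwa [show (extI G I).map (algebraMap (G ⊗[R] B) (G' ⊗[R] B)) = extI (R := R) G' I from extI_map φ I] at this

theorem Cov.mapBase {G G' : Type u} [CommRing G] [CommRing G'] [Algebra R G] [Algebra R G'] (φ : G →ₐ[R] G')
    {I : Ideal B} (h : Cov G (G ⊗[R] B) (extI G I)) : Cov G' (G' ⊗[R] B) (extI G' I) := fun q hq => by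
  obtain ⟨g, hg, hgood⟩ := h ⟨q.asIdeal.comap (LimTR12.tmap φ), Ideal.comap_isPrime _ _⟩
    (Ideal.map_le_iff_le_comap.1 ((extI_map φ I).le.trans hq))
  exact ⟨_, hg, hgood.mapBase φ⟩

variable {A : Type u} [CommRing A] [Algebra R A]

/-- Finitely many elements come from a finitely generated subalgebra. -/
theorem exists_preimage (T : Finset (A ⊗[R] B)) :
    ∃ S : Subalgebra R A, S.FG ∧ ∀ x ∈ T, x ∈ Set.range (tmap (B := B) S.val) := by
  classical
  have hmono : ∀ {S S' : Subalgebra R A}, S ≤ S' → ∀ y ∈ Set.range (tmap (B := B) S.val),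
      y ∈ Set.range (tmap (B := B) S'.val) := fun {S S'} hle y ⟨z, hz⟩ => ⟨tmap (Subalgebra.inclusion hle) z, by
    rw [← hz, ← AlgHom.comp_apply, tmap, tmap, ← Algebra.TensorProduct.map_comp]
    rfl⟩
  have hone : ∀ x : A ⊗[R] B, ∃ S' : Subalgebra R A, S'.FG ∧ x ∈ Set.range (tmap (B := B) S'.val) := fun x => by
    induction x using TensorProduct.induction_on with
    | zero => exact ⟨⊥, Subalgebra.fg_bot, 0, map_zero _⟩
    | tmul a b => exact ⟨Algebra.adjoin R {a}, ⟨{a}, by simp⟩, ⟨a, Algebra.subset_adjoin rfl⟩ ⊗ₜ b, rfl⟩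
    | add a b ha hb =>
      obtain ⟨Sa, hSa, ha⟩ := ha
      obtain ⟨Sb, hSb, hb⟩ := hb
      obtain ⟨za, hza⟩ := hmono le_sup_left a ha
      obtain ⟨zb, hzb⟩ := hmono le_sup_right b hb
      exact ⟨Sa ⊔ Sb, hSa.sup hSb, za + zb, by rw [map_add, hza, hzb]⟩
  choose S hS hx using hone
  exact ⟨T.sup S, Finset.sup_induction (p := fun S : Subalgebra R A => S.FG) Subalgebra.fg_bot
    (fun _ ha _ hb => ha.sup hb) (fun x _ => hS x), fun x hxT => hmono (Finset.le_sup (f := S) hxT) x (hx x)⟩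

/-- `Good` descends, abstractly. -/
theorem good_core [Algebra.FiniteType R B] {R₀ : Type u} [CommRing R₀] [Algebra R R₀] [IsNoetherianRing R₀]
    [Algebra R₀ A] [IsScalarTower R R₀ A] {I : Ideal B} (hI : I.FG) (g₀ : R₀ ⊗[R] B)
    (rs : List (Localization.Away (tmap (B := B) (IsScalarTower.toAlgHom R R₀ A) g₀)))
    (hrs : RegImm.IsTransRegularSeq A (Localization.Away (tmap (B := B) (IsScalarTower.toAlgHom R R₀ A) g₀)) rs)
    (hJ : (extI A I).map (algebraMap (A ⊗[R] B) (Localization.Away (tmap (B := B) (IsScalarTower.toAlgHom R R₀ A) g₀))) =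
      Ideal.ofList rs)
    (hnum : ∀ r ∈ rs, ∃ (x₀ : R₀ ⊗[R] B) (n : ℕ),
      r * algebraMap (A ⊗[R] B) _ (tmap (B := B) (IsScalarTower.toAlgHom R R₀ A) (g₀ ^ n)) =
        algebraMap (A ⊗[R] B) _ (tmap (B := B) (IsScalarTower.toAlgHom R R₀ A) x₀)) :
    ∃ S : Subalgebra R₀ A, S.FG ∧
      Good S (S ⊗[R] B) (extI S I) (tmap (B := B) (IsScalarTower.toAlgHom R R₀ S) g₀) := by
  classical
  let C₀ := R₀ ⊗[R] B
  letI : Algebra C₀ (A ⊗[R] B) := (tmap (B := B) (IsScalarTower.toAlgHom R R₀ A)).toRingHom.toAlgebra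
  haveI : IsScalarTower R₀ C₀ (A ⊗[R] B) := IsScalarTower.of_algebraMap_eq fun x => by
    show algebraMap R₀ (A ⊗[R] B) x = tmap (IsScalarTower.toAlgHom R R₀ A) (x ⊗ₜ 1)
    simp [tmap]
  haveI : IsScalarTower B C₀ (A ⊗[R] B) := IsScalarTower.of_algebraMap_eq fun b => by
    show (1 : A) ⊗ₜ[R] b = tmap (IsScalarTower.toAlgHom R R₀ A) ((1 : R₀) ⊗ₜ[R] b)
    simp [tmap]
  haveI : Algebra.IsPushout R₀ A C₀ (A ⊗[R] B) :=
    (Algebra.IsPushout.comp_iff R R₀ B C₀ (T := A) (T' := A ⊗[R] B)).1 inferInstance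
  obtain ⟨algA, twA, poA, hc⟩ := exists_away_pushout (G := R₀) (G' := A) (C' := A ⊗[R] B) g₀
  let L₀ := Localization.Away g₀
  let L := Localization.Away (algebraMap C₀ (A ⊗[R] B) g₀)
  haveI : Algebra.FiniteType C₀ L₀ := IsLocalization.finiteType_of_monoid_fg (Submonoid.powers g₀) L₀
  haveI : Algebra.FiniteType R₀ C₀ := inferInstance
  haveI : Algebra.FiniteType R₀ L₀ := Algebra.FiniteType.trans ‹Algebra.FiniteType R₀ C₀› ‹Algebra.FiniteType C₀ L₀›
  have hlift : ∀ r ∈ rs, ∃ r₀ : L₀, algebraMap L₀ L r₀ = r := fun r hr => by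
    obtain ⟨x₀, n, hn⟩ := hnum r hr
    refine ⟨IsLocalization.mk' L₀ x₀ (⟨g₀ ^ n, n, rfl⟩ : Submonoid.powers g₀), ?_⟩
    have e1 := congrArg (algebraMap L₀ L) (IsLocalization.mk'_spec L₀ x₀ (⟨g₀ ^ n, n, rfl⟩ : Submonoid.powers g₀))
    rw [map_mul, hc, hc] at e1
    refine (IsUnit.mul_left_inj ?_).1 (e1.trans hn.symm)
    exact IsLocalization.map_units L (⟨_, n, (map_pow _ g₀ n).symm⟩ : Submonoid.powers (algebraMap C₀ (A ⊗[R] B) g₀))
  obtain ⟨rs₀, hrs₀⟩ : ∃ rs₀ : List L₀, rs₀.map (algebraMap L₀ L) = rs :=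
    ⟨rs.attach.map fun x => (hlift x.1 x.2).choose, by
      rw [List.map_map]
      conv_rhs => rw [← List.attach_map_subtype_val rs]
      exact List.map_congr_left fun x _ => (hlift x.1 x.2).choose_spec⟩
  obtain ⟨gens, hgens⟩ := hI
  let gJ : Finset L₀ := gens.image fun i => algebraMap C₀ L₀ ((1 : R₀) ⊗ₜ[R] i)
  have hJgen : (extI (R := R) R₀ I).map (algebraMap C₀ L₀) = Ideal.span (gJ : Set L₀) := by
    rw [extI, ← hgens, Ideal.map_span, Ideal.map_span, Set.image_image, Finset.coe_image]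
    rfl
  have hJ₀ : (Ideal.span (gJ : Set L₀)).map (algebraMap L₀ L) = Ideal.ofList rs := by
    rw [← hJgen, ← hJ, ← extI_map (IsScalarTower.toAlgHom R R₀ A) I,
      map_map' (LimTR12.tmap (B := B) (IsScalarTower.toAlgHom R R₀ A)), Ideal.map_map]
    refine congrArg (Ideal.map · (extI R₀ I)) (RingHom.ext fun c => ?_)
    exact hc c
  obtain ⟨S, hS, hcore⟩ := descend_core (R₀ := R₀) (A := A) (L := L) rs₀ gJ (by rw [hrs₀]; exact hrs)
    (by rw [hrs₀]; exact hJ₀)
  -- the conclusion over `S`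
  let ι : R₀ →ₐ[R] S := IsScalarTower.toAlgHom R R₀ S
  let CS := S ⊗[R] B
  letI : Algebra C₀ CS := (tmap (B := B) ι).toRingHom.toAlgebra
  haveI : IsScalarTower R₀ C₀ CS := IsScalarTower.of_algebraMap_eq fun x => by
    show algebraMap R₀ CS x = tmap ι (x ⊗ₜ 1)
    simp [tmap, ι]
    rfl
  haveI : IsScalarTower B C₀ CS := IsScalarTower.of_algebraMap_eq fun b => by
    show (1 : S) ⊗ₜ[R] b = tmap ι ((1 : R₀) ⊗ₜ[R] b)
    simp [tmap]
  haveI : Algebra.IsPushout R₀ S C₀ CS :=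
    (Algebra.IsPushout.comp_iff R R₀ B C₀ (T := S) (T' := CS)).1 inferInstance
  obtain ⟨algS, twS, poS, hcS⟩ := exists_away_pushout (G := R₀) (G' := S) (C' := CS) g₀
  obtain ⟨h1, h2⟩ := hcore (Localization.Away (algebraMap C₀ CS g₀))
  have hgood : Good S CS (extI S I) (algebraMap C₀ CS g₀) := by
    refine ⟨_, h1, ?_⟩
    rw [← h2, ← hJgen, ← extI_map ι I, map_map', Ideal.map_map]
    exact congrArg (Ideal.map · (extI R₀ I)) (RingHom.ext fun c => (hcS c).symm)
  exact ⟨S, hS, hgood⟩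

/-- `Good` descends to a finitely generated subalgebra. -/
theorem Good.descend [IsNoetherianRing R] [Algebra.FiniteType R B] {I : Ideal B} (hI : I.FG) {g : A ⊗[R] B}
    (h : Good A (A ⊗[R] B) (extI A I) g) :
    ∃ S : Subalgebra R A, S.FG ∧ ∃ gS : S ⊗[R] B, tmap (B := B) S.val gS = g ∧ Good S (S ⊗[R] B) (extI S I) gS := by
  classical
  obtain ⟨rs, hrs, hJ⟩ := h
  choose num hnum using fun r : Localization.Away g => IsLocalization.surj (Submonoid.powers g) r
  obtain ⟨S₀, hS₀, hpre⟩ := exists_preimage (insert g (rs.toFinset.image fun r => (num r).1))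
  obtain ⟨g₀, rfl⟩ := hpre g (Finset.mem_insert_self _ _)
  haveI : Algebra.FiniteType R S₀ := (Subalgebra.fg_iff_finiteType S₀).mp hS₀
  haveI : IsNoetherianRing S₀ := Algebra.FiniteType.isNoetherianRing R S₀
  obtain ⟨S, hS, hgood⟩ := good_core (R₀ := S₀) hI g₀ rs hrs hJ fun r hr => by
    obtain ⟨x₀, hx₀⟩ := hpre _ (Finset.mem_insert_of_mem (Finset.mem_image.2 ⟨r, List.mem_toFinset.2 hr, rfl⟩))
    obtain ⟨n, hn⟩ := (num r).2.2
    refine ⟨x₀, n, ?_⟩
    rw [map_pow]
    refine (Eq.trans ?_ (hnum r)).trans (congrArg _ hx₀.symm)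
    exact congrArg (r * algebraMap _ _ ·) hn
  let ι : S₀ →ₐ[R] S := IsScalarTower.toAlgHom R S₀ S
  let T := S.restrictScalars R
  let φ : S →ₐ[R] T := (S.val.restrictScalars R).codRestrict T fun x => x.2
  have hTfg : T.FG := by
    obtain ⟨t, ht⟩ := id hS
    show (S.restrictScalars R).FG
    rw [← ht, Algebra.Subalgebra.restrictScalars_adjoin]
    refine Subalgebra.FG.sup ?_ ⟨t, rfl⟩
    rw [show IsScalarTower.toAlgHom R S₀ A = S₀.val from AlgHom.ext fun _ => rfl, Subalgebra.range_val]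
    exact hS₀
  refine ⟨T, hTfg, _, ?_, hgood.mapBase φ⟩
  show tmap T.val (tmap φ (tmap ι g₀)) = tmap S₀.val g₀
  rw [← AlgHom.comp_apply, ← AlgHom.comp_apply]
  congr 1
  ext x <;> simp [tmap, φ, ι] <;> rfl

/-- The covering descends to a finitely generated subalgebra. -/
theorem Cov.descend [IsNoetherianRing R] [Algebra.FiniteType R B] {I : Ideal B} (hI : I.FG)
    (h : Cov A (A ⊗[R] B) (extI A I)) : ∃ S : Subalgebra R A, S.FG ∧ Cov S (S ⊗[R] B) (extI S I) := by
  classical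
  let T : Set (A ⊗[R] B) := {g | Good A (A ⊗[R] B) (extI A I) g}
  have htop : extI A I ⊔ Ideal.span T = ⊤ := by
    by_contra hne
    obtain ⟨m, hm, hle⟩ := Ideal.exists_le_maximal _ hne
    obtain ⟨g, hg, hgood⟩ := h ⟨m, hm.isPrime⟩ (le_sup_left.trans hle)
    exact hg (hle (Ideal.mem_sup_right (Ideal.subset_span hgood)))
  obtain ⟨y, hy, z, hz, hyz⟩ := Submodule.mem_sup.1 (htop.ge (Submodule.mem_top (x := (1 : A ⊗[R] B))))
  obtain ⟨gens, hgens⟩ := hI
  let G₀ : Finset (A ⊗[R] B) := gens.image fun i => (1 : A) ⊗ₜ[R] i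
  have hyG : y ∈ Submodule.span (A ⊗[R] B) (G₀ : Set (A ⊗[R] B)) := by
    rw [extI, ← hgens, Ideal.map_span] at hy
    rw [Finset.coe_image]
    exact hy
  obtain ⟨d, hd⟩ := Submodule.mem_span_finset'.1 hyG
  have hidx : ∀ a : G₀, ∃ i ∈ gens, (1 : A) ⊗ₜ[R] i = a.1 := fun a => Finset.mem_image.1 a.2
  choose idx hidxg hidxe using hidx
  obtain ⟨T', hT', hzT⟩ := Submodule.mem_span_finite_of_mem_span hz
  obtain ⟨c, hc⟩ := Submodule.mem_span_finset'.1 hzT
  choose U hU gU hgU hgood using fun g : T' => Good.descend ⟨gens, hgens⟩ (hT' g.2)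
  obtain ⟨S₀, hS₀, hpre⟩ := exists_preimage (Finset.univ.image d ∪ Finset.univ.image c)
  let S₁ := S₀ ⊔ Finset.univ.sup U
  have hS₁ : S₁.FG := hS₀.sup (Finset.sup_induction (p := fun S : Subalgebra R A => S.FG) Subalgebra.fg_bot
    (fun _ ha _ hb => ha.sup hb) fun g _ => hU g)
  have hpre' : ∀ x ∈ Finset.univ.image d ∪ Finset.univ.image c, ∃ x₁, tmap (B := B) S₁.val x₁ = x := fun x hx => by
    obtain ⟨x₀, hx₀⟩ := hpre x hx
    refine ⟨tmap (Subalgebra.inclusion le_sup_left) x₀, ?_⟩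
    rw [← hx₀, ← AlgHom.comp_apply, tmap, tmap, ← Algebra.TensorProduct.map_comp]
    rfl
  choose! pre hpre₁ using hpre'
  let g₁ : T' → S₁ ⊗[R] B := fun g => tmap (Subalgebra.inclusion
    ((Finset.le_sup (f := U) (Finset.mem_univ g)).trans le_sup_right)) (gU g)
  have hg₁ : ∀ g, tmap (B := B) S₁.val (g₁ g) = g.1 := fun g => by
    rw [← hgU g, ← AlgHom.comp_apply, tmap, tmap, ← Algebra.TensorProduct.map_comp]
    rfl
  let δ := (∑ a : G₀, pre (d a) * ((1 : S₁) ⊗ₜ[R] idx a)) + (∑ g : T', pre (c g) * g₁ g) - 1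
  have hδ : S₁.val.toLinearMap.rTensor B δ = 0 := by
    show tmap (B := B) S₁.val δ = 0
    simp only [δ]
    rw [map_sub, sub_eq_zero, map_add, map_sum, map_sum, map_one, ← hyz, ← hd, ← hc]
    congr 1
    · refine Finset.sum_congr rfl fun a _ => ?_
      rw [map_mul, hpre₁ _ (Finset.mem_union_left _ (Finset.mem_image_of_mem d (Finset.mem_univ a))), smul_eq_mul]
      exact congrArg (d a * ·) ((Algebra.TensorProduct.map_tmul _ _ _ _).trans (by rw [map_one]; exact hidxe a))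
    · refine Finset.sum_congr rfl fun g _ => ?_
      rw [map_mul, hpre₁ _ (Finset.mem_union_right _ (Finset.mem_image_of_mem c (Finset.mem_univ g))), hg₁, smul_eq_mul]
  obtain ⟨S, hle, hS, hδS⟩ := exists_fg_eq_zero S₁ hS₁ δ hδ
  refine ⟨S, hS, fun q hq => ?_⟩
  have h1 : tmap (B := B) (Subalgebra.inclusion hle) δ = 0 := hδS
  by_contra hcon
  push Not at hcon
  apply q.2.ne_top
  rw [Ideal.eq_top_iff_one]
  rw [map_sub, map_one, sub_eq_zero] at h1
  rw [← h1, map_add, map_sum, map_sum]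
  refine Ideal.add_mem _ (Ideal.sum_mem _ fun a _ => ?_) (Ideal.sum_mem _ fun g _ => ?_)
  · rw [map_mul]
    refine Ideal.mul_mem_left _ _ (hq ?_)
    have : idx a ∈ I := hgens ▸ Ideal.subset_span (hidxg a)
    simpa [tmap] using Ideal.mem_map_of_mem (Algebra.TensorProduct.includeRight : B →ₐ[R] S ⊗[R] B) this
  · rw [map_mul]
    refine Ideal.mul_mem_left _ _ (of_not_not fun hn => hcon _ hn ?_)
    exact ((hgood g).mapBase _).mapBase _

end Tensor

end Groth.Agent.LimTR12
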