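import Groth.Prelude.Def_RegImm
import Groth.Agent.FlatMor.FlatAtBC
import Mathlib.RingTheory.Flat.Localization
import Mathlib.RingTheory.LocalProperties.Submodule
import Mathlib.RingTheory.TensorProduct.Quotient

/-!
# Transversally regular sequences are local

`isTransRegularSeq_localization`, `isTransRegularSeq_of_forall_maximal`, `isTransRegularSeq_base_iff`.
-/

set_option autoImplicit false
universe u

open RingTheory.Sequence
open scoped TensorProduct

namespace Groth.Agent.LimTR12

variable {A B : Type u} [CommRing A] [CommRing B] [Algebra A B]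

theorem ofList_take_map {B' : Type u} [CommRing B'] (φ : B →+* B') (rs : List B) (j : ℕ) :
    Ideal.ofList ((rs.map φ).take j) = (Ideal.ofList (rs.take j)).map φ := by
  rw [← List.map_take, Ideal.map_ofList]

/-- The localisation of a quotient. -/
theorem exists_localizedModule_quotient (S : Submonoid B) (B' : Type u) [CommRing B'] [Algebra B B']
    [IsLocalization S B'] [Algebra A B'] [IsScalarTower A B B'] (I : Ideal B) :
    Nonempty (LocalizedModule S (B ⧸ I) ≃ₗ[A] B' ⧸ I.map (algebraMap B B')) :=
  ⟨((((LocalizedModule.equivTensorProduct S (B ⧸ I)).restrictScalars B).trans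
      (TensorProduct.congr (IsLocalization.algEquiv S (Localization S) B').toLinearEquiv (LinearEquiv.refl B (B ⧸ I)))).trans
    ((Algebra.TensorProduct.quotIdealMapEquivTensorQuot B' I).symm.toLinearEquiv.restrictScalars B)).restrictScalars A⟩

/-- Transversal regularity localises. -/
theorem isTransRegularSeq_localization (S : Submonoid B) (B' : Type u) [CommRing B'] [Algebra B B']
    [IsLocalization S B'] [Algebra A B'] [IsScalarTower A B B'] {rs : List B}
    (h : RegImm.IsTransRegularSeq A B rs) : RegImm.IsTransRegularSeq A B' (rs.map (algebraMap B B')) := by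
  refine ⟨⟨fun j hj => ?_⟩, fun j hj => ?_⟩
  · have hj' : j < rs.length := by simpa using hj
    simp only [List.getElem_map]
    rw [isSMulRegular_quotient_iff_mem_of_smul_mem, Ideal.smul_eq_mul, Ideal.mul_top, ofList_take_map]
    intro x hx
    have h0 := h.1.regular_mod_prev j hj'
    rw [isSMulRegular_quotient_iff_mem_of_smul_mem, Ideal.smul_eq_mul, Ideal.mul_top] at h0
    obtain ⟨b, s, rfl⟩ := IsLocalization.exists_mk'_eq S x
    rw [smul_eq_mul, IsLocalization.mul_mk'_eq_mk'_of_mul, IsLocalization.mk'_mem_map_algebraMap_iff] at hx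
    obtain ⟨t, ht, ht'⟩ := hx
    rw [IsLocalization.mk'_mem_map_algebraMap_iff]
    exact ⟨t, ht, h0 (t * b) (by rw [smul_eq_mul, mul_left_comm]; exact ht')⟩
  · haveI := h.2 j (by simpa using hj)
    rw [ofList_take_map]
    obtain ⟨e⟩ := exists_localizedModule_quotient (A := A) S B' (Ideal.ofList (rs.take j))
    haveI : Module.Flat A (LocalizedModule S (B ⧸ Ideal.ofList (rs.take j))) :=
      FlatMor.FlatAtBC.flat_localizedModule A S (B ⧸ Ideal.ofList (rs.take j))
    exact Module.Flat.of_linearEquiv e.symm

/-- Transversal regularity is checked at maximal ideals. -/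
theorem isTransRegularSeq_of_forall_maximal {rs : List B}
    (h : ∀ (q : Ideal B) [q.IsMaximal], ∃ (B' : Type u) (_ : CommRing B') (_ : Algebra B B')
      (_ : IsLocalization.AtPrime B' q) (_ : Algebra A B') (_ : IsScalarTower A B B'),
      RegImm.IsTransRegularSeq A B' (rs.map (algebraMap B B'))) : RegImm.IsTransRegularSeq A B rs := by
  refine ⟨⟨fun j hj => ?_⟩, fun j hj => ?_⟩
  · rw [isSMulRegular_quotient_iff_mem_of_smul_mem, Ideal.smul_eq_mul, Ideal.mul_top]
    intro x hx
    by_contra hxI
    obtain ⟨q, hq, hle⟩ := Ideal.exists_le_maximal ((Ideal.ofList (rs.take j)).colon {x}) (fun htop => hxI (by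
      have := (Ideal.eq_top_iff_one _).1 htop
      rw [Submodule.mem_colon_singleton, one_smul] at this
      exact this))
    haveI := hq
    obtain ⟨B', _, _, _, _, _, hB'⟩ := h q
    have h0 := hB'.1.regular_mod_prev j (by simpa using hj)
    simp only [List.getElem_map] at h0
    rw [isSMulRegular_quotient_iff_mem_of_smul_mem, Ideal.smul_eq_mul, Ideal.mul_top, ofList_take_map] at h0
    have h1 := h0 (algebraMap B B' x) (by
      rw [smul_eq_mul, ← map_mul]
      exact Ideal.mem_map_of_mem _ hx)
    rw [IsLocalization.algebraMap_mem_map_algebraMap_iff q.primeCompl] at h1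
    obtain ⟨t, ht, htx⟩ := h1
    exact ht (hle (Submodule.mem_colon_singleton.2 (by rwa [smul_eq_mul])))
  · refine Module.flat_of_isLocalized_maximal (R := A) (S := B) (M := B ⧸ Ideal.ofList (rs.take j))
      (fun q _ => LocalizedModule q.primeCompl (B ⧸ Ideal.ofList (rs.take j)))
      (fun q _ => LocalizedModule.mkLinearMap q.primeCompl _) fun q hq => ?_
    obtain ⟨B', _, _, _, _, _, hB'⟩ := h q
    have hf := hB'.2 j (by simpa using hj)
    rw [ofList_take_map] at hf
    haveI := hf
    obtain ⟨e⟩ := exists_localizedModule_quotient (A := A) q.primeCompl B' (Ideal.ofList (rs.take j))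
    exact Module.Flat.of_linearEquiv e

/-- The base may be localised. -/
theorem isTransRegularSeq_base_iff (S : Submonoid A) (A' : Type u) [CommRing A'] [Algebra A A']
    [IsLocalization S A'] [Algebra A' B] [IsScalarTower A A' B] (rs : List B) :
    RegImm.IsTransRegularSeq A' B rs ↔ RegImm.IsTransRegularSeq A B rs :=
  and_congr Iff.rfl (forall_congr' fun _ => forall_congr' fun _ => Module.flat_iff_of_isLocalization A' S _)

end Groth.Agent.LimTR12
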