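import Groth.Agent.LimTR12.Stage
import Groth.Agent.LimTR12.Local
import Groth.Agent.Fibres16.LimCritScheme
import Groth.Agent.Thick.Unram

/-!
# Transversally regular sequences of sections and limits of schemes
-/

set_option autoImplicit false
set_option linter.style.haveILetI false
universe u

open CategoryTheory CategoryTheory.Limits AlgebraicGeometry TopologicalSpace
open scoped TensorProduct

namespace Groth.Agent.LimTR12

variable {X T : Scheme.{u}}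

/-- The germs of a list of sections are transversally regular relative to the base at `x`. -/
def TRAt (g : X ⟶ T) (fs : List Γ(X, ⊤)) (x : X) : Prop :=
  @RegImm.IsTransRegularSeq (T.presheaf.stalk (g x)) (X.presheaf.stalk x) _ _ (g.stalkMap x).hom.toAlgebra
    (fs.map (X.presheaf.germ ⊤ x trivial).hom)

/-- Restriction of a list of global sections. -/
noncomputable abbrev resList (fs : List Γ(X, ⊤)) (U : X.Opens) : List Γ(X, U) :=
  fs.map (fun f => (X.presheaf.map (homOfLE (le_top : U ≤ ⊤)).op).hom f)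

/-- Transversal regularity on an affine chart is pointwise. -/
theorem chart_iff (g : X ⟶ T) {V : T.Opens} {U : X.Opens} (hV : IsAffineOpen V) (hU : IsAffineOpen U)
    (e : U ≤ g ⁻¹ᵁ V) (fs : List Γ(X, ⊤)) :
    @RegImm.IsTransRegularSeq Γ(T, V) Γ(X, U) _ _ (g.appLE V U e).hom.toAlgebra (resList fs U) ↔
      ∀ x ∈ U, TRAt g fs x := by
  letI := (g.appLE V U e).hom.toAlgebra
  have hgerm : ∀ (x : X) (hx : x ∈ U), (resList fs U).map (X.presheaf.germ U x hx).hom =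
      fs.map (X.presheaf.germ ⊤ x trivial).hom := fun x hx => by
    rw [List.map_map]
    exact List.map_congr_left fun f _ => X.presheaf.germ_res_apply (homOfLE (le_top : U ≤ ⊤)) x hx f
  have hloc : ∀ (x : X) (hx : x ∈ U),
      letI : Algebra Γ(T, V) (X.presheaf.stalk x) := ((X.presheaf.germ U x hx).hom.comp (g.appLE V U e).hom).toAlgebra
      RegImm.IsTransRegularSeq Γ(T, V) (X.presheaf.stalk x) (fs.map (X.presheaf.germ ⊤ x trivial).hom) ↔
        TRAt g fs x := by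
    intro x hx
    letI : Algebra (T.presheaf.stalk (g x)) (X.presheaf.stalk x) := (g.stalkMap x).hom.toAlgebra
    letI : Algebra Γ(T, V) (X.presheaf.stalk x) := ((X.presheaf.germ U x hx).hom.comp (g.appLE V U e).hom).toAlgebra
    letI := T.presheaf.algebra_section_stalk ⟨g x, e hx⟩
    haveI : IsLocalization.AtPrime (T.presheaf.stalk (g x)) (hV.primeIdealOf ⟨g x, e hx⟩).asIdeal :=
      hV.isLocalization_stalk ⟨g x, e hx⟩
    haveI : IsScalarTower Γ(T, V) (T.presheaf.stalk (g x)) (X.presheaf.stalk x) := by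
      refine IsScalarTower.of_algebraMap_eq fun a => ?_
      show X.presheaf.germ U x hx (g.appLE V U e a) = g.stalkMap x (T.presheaf.germ V (g x) (e hx) a)
      rw [Scheme.Hom.germ_stalkMap_apply, Scheme.Hom.appLE, CommRingCat.comp_apply]
      exact X.presheaf.germ_res_apply _ x hx _
    exact (isTransRegularSeq_base_iff (hV.primeIdealOf ⟨g x, e hx⟩).asIdeal.primeCompl (T.presheaf.stalk (g x)) _).symm
  constructor
  · intro h x hx
    refine (hloc x hx).1 ?_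
    letI := X.presheaf.algebra_section_stalk ⟨x, hx⟩
    letI : Algebra Γ(T, V) (X.presheaf.stalk x) := ((X.presheaf.germ U x hx).hom.comp (g.appLE V U e).hom).toAlgebra
    haveI : IsScalarTower Γ(T, V) Γ(X, U) (X.presheaf.stalk x) := IsScalarTower.of_algebraMap_eq fun _ => rfl
    haveI : IsLocalization.AtPrime (X.presheaf.stalk x) (hU.primeIdealOf ⟨x, hx⟩).asIdeal :=
      hU.isLocalization_stalk ⟨x, hx⟩
    have h1 := isTransRegularSeq_localization (hU.primeIdealOf ⟨x, hx⟩).asIdeal.primeCompl (X.presheaf.stalk x) h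
    rw [← hgerm x hx]
    exact h1
  · intro h
    refine isTransRegularSeq_of_forall_maximal fun q hq => ?_
    let y : PrimeSpectrum Γ(X, U) := ⟨q, inferInstance⟩
    have hx : hU.fromSpec y ∈ U := hU.range_fromSpec.le ⟨y, rfl⟩
    letI := X.presheaf.algebra_section_stalk ⟨hU.fromSpec y, hx⟩
    letI : Algebra Γ(T, V) (X.presheaf.stalk (hU.fromSpec y)) :=
      ((X.presheaf.germ U _ hx).hom.comp (g.appLE V U e).hom).toAlgebra
    refine ⟨X.presheaf.stalk (hU.fromSpec y), inferInstance, inferInstance, hU.isLocalization_stalk' y hx,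
      inferInstance, IsScalarTower.of_algebraMap_eq fun _ => rfl, ?_⟩
    have h1 := (hloc _ hx).2 (h _ hx)
    rw [← hgerm _ hx] at h1
    exact h1

section Pullback

variable {X₀ S₀ : Scheme.{u}} (g₀ : X₀ ⟶ S₀) (fs : List Γ(X₀, ⊤)) {V₀ : S₀.Opens} {U₀ : X₀.Opens}
  (hV₀ : IsAffineOpen V₀) (hU₀ : IsAffineOpen U₀) (e₀ : U₀ ≤ g₀ ⁻¹ᵁ V₀)

/-- The condition on the chart of a base change. -/
def ChartTR (h : T ⟶ S₀) : Prop :=
  letI := (g₀.appLE V₀ U₀ e₀).hom.toAlgebra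
  letI := (h.app V₀).hom.toAlgebra
  RegImm.IsTransRegularSeq Γ(T, h ⁻¹ᵁ V₀) (Γ(T, h ⁻¹ᵁ V₀) ⊗[Γ(S₀, V₀)] Γ(X₀, U₀))
    ((resList fs U₀).map (Algebra.TensorProduct.includeRight (R := Γ(S₀, V₀)) (A := Γ(T, h ⁻¹ᵁ V₀)) (B := Γ(X₀, U₀))))

include hV₀ hU₀ in
/-- The pullback of a chart. -/
theorem chartTR_iff (h : T ⟶ S₀) [IsAffineHom h] :
    ChartTR g₀ fs e₀ h ↔ ∀ x, pullback.fst g₀ h x ∈ U₀ →
      TRAt (pullback.snd g₀ h) (fs.map fun f => (pullback.fst g₀ h).appTop.hom f) x := by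
  haveI : IsAffineHom (pullback.fst g₀ h) := MorphismProperty.pullback_fst (P := @IsAffineHom) _ _ inferInstance
  obtain ⟨e, hpush⟩ := Thick.Unram.isPushout_appLE (IsPullback.of_hasPullback g₀ h) hV₀ hU₀ e₀
  have hU : IsAffineOpen (pullback.fst g₀ h ⁻¹ᵁ U₀) := hU₀.preimage _
  rw [show (∀ x, pullback.fst g₀ h x ∈ U₀ →
      TRAt (pullback.snd g₀ h) (fs.map fun f => (pullback.fst g₀ h).appTop.hom f) x) ↔ _ from
    (chart_iff (pullback.snd g₀ h) (hV₀.preimage h) hU e _).symm]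
  letI := (g₀.appLE V₀ U₀ e₀).hom.toAlgebra
  letI := (h.app V₀).hom.toAlgebra
  let B' := Γ(pullback g₀ h, pullback.fst g₀ h ⁻¹ᵁ U₀)
  letI : Algebra Γ(T, h ⁻¹ᵁ V₀) B' := ((pullback.snd g₀ h).appLE _ _ e).hom.toAlgebra
  letI : Algebra Γ(X₀, U₀) B' := ((pullback.fst g₀ h).app U₀).hom.toAlgebra
  letI : Algebra Γ(S₀, V₀) B' := (g₀.appLE V₀ U₀ e₀ ≫ (pullback.fst g₀ h).app U₀).hom.toAlgebra
  haveI : IsScalarTower Γ(S₀, V₀) Γ(X₀, U₀) B' := IsScalarTower.of_algebraMap_eq fun _ => rfl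
  haveI : IsScalarTower Γ(S₀, V₀) Γ(T, h ⁻¹ᵁ V₀) B' :=
    IsScalarTower.of_algebraMap_eq fun r => congrArg (fun φ => φ.hom r) hpush.w
  haveI : Algebra.IsPushout Γ(S₀, V₀) Γ(T, h ⁻¹ᵁ V₀) Γ(X₀, U₀) B' :=
    CommRingCat.isPushout_iff_isPushout.1 hpush.flip
  let E := Algebra.IsPushout.equiv Γ(S₀, V₀) Γ(T, h ⁻¹ᵁ V₀) Γ(X₀, U₀) B'
  have hE : ((resList fs U₀).map (Algebra.TensorProduct.includeRight (R := Γ(S₀, V₀)) (A := Γ(T, h ⁻¹ᵁ V₀))
      (B := Γ(X₀, U₀)))).map E = resList (fs.map fun f => (pullback.fst g₀ h).appTop.hom f) (pullback.fst g₀ h ⁻¹ᵁ U₀) := by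
    simp only [resList, List.map_map]
    refine List.map_congr_left fun f _ => ?_
    show E ((1 : Γ(T, h ⁻¹ᵁ V₀)) ⊗ₜ[Γ(S₀, V₀)] _) = _
    rw [← Algebra.IsPushout.equiv_symm_algebraMap_right Γ(S₀, V₀) Γ(T, h ⁻¹ᵁ V₀) Γ(X₀, U₀) B',
      AlgEquiv.apply_symm_apply]
    exact congr($((pullback.fst g₀ h).naturality (homOfLE (le_top : U₀ ≤ ⊤)).op) f)
  refine ⟨isTransRegularSeq_congr E hE, isTransRegularSeq_congr E.symm ?_⟩
  rw [← hE, List.map_map]
  simp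

/-- Base change of charts. -/
theorem ChartTR.baseChange {T' : Scheme.{u}} {h : T ⟶ S₀} {h' : T' ⟶ S₀} (t : T' ⟶ T) (ht : t ≫ h = h')
    (H : ChartTR g₀ fs e₀ h) : ChartTR g₀ fs e₀ h' := by
  letI := (g₀.appLE V₀ U₀ e₀).hom.toAlgebra
  letI := (h.app V₀).hom.toAlgebra
  letI := (h'.app V₀).hom.toAlgebra
  have et : h' ⁻¹ᵁ V₀ ≤ t ⁻¹ᵁ (h ⁻¹ᵁ V₀) := by subst ht; exact le_rfl
  letI := (t.appLE (h ⁻¹ᵁ V₀) (h' ⁻¹ᵁ V₀) et).hom.toAlgebra
  haveI : IsScalarTower Γ(S₀, V₀) Γ(T, h ⁻¹ᵁ V₀) Γ(T', h' ⁻¹ᵁ V₀) := by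
    refine IsScalarTower.of_algebraMap_eq' (congrArg CommRingCat.Hom.hom
      (?_ : h'.app V₀ = h.app V₀ ≫ t.appLE (h ⁻¹ᵁ V₀) (h' ⁻¹ᵁ V₀) et))
    subst ht
    rw [Scheme.Hom.comp_app]
    simp [Scheme.Hom.appLE]
  exact (trs_iff _ _).2 ((trs_iff _ _).1 H).baseChange

end Pullback

section Limit

variable {I : Type u} [SmallCategory I] [IsCofiltered I] {D : I ⥤ Scheme.{u}} {c : Cone D}
  [∀ (i j : I) (f : i ⟶ j), IsAffineHom (D.map f)] {i₀ : I}

/-- The condition on a chart at the limit is attained at a stage. -/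
theorem exists_chart_stage (hc : IsLimit c) {X₀ : Scheme.{u}} (g₀ : X₀ ⟶ D.obj i₀)
    [LocallyOfFinitePresentation g₀] (fs : List Γ(X₀, ⊤)) {V₀ : (D.obj i₀).Opens} {U₀ : X₀.Opens}
    (hV₀ : IsAffineOpen V₀) (hU₀ : IsAffineOpen U₀) (e₀ : U₀ ≤ g₀ ⁻¹ᵁ V₀)
    (h : ChartTR g₀ fs e₀ (c.π.app i₀)) : ∃ j : Over i₀, ChartTR g₀ fs e₀ (D.map j.hom) := by
  letI := (g₀.appLE V₀ U₀ e₀).hom.toAlgebra
  letI := ((c.π.app i₀).app V₀).hom.toAlgebra
  haveI : Algebra.FinitePresentation Γ(D.obj i₀, V₀) Γ(X₀, U₀) := g₀.finitePresentation_appLE hV₀ hU₀ e₀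
  obtain ⟨R₁, hR₁, S, hS, hG⟩ := exists_stage (resList fs U₀) h
  haveI := hR₁
  obtain ⟨j, ψ, -⟩ := Fibres16.LimCrit.exists_stage_algHom (R₀ := R₁) hc hV₀ S hS
  letI := ((D.map j.hom).app V₀).hom.toAlgebra
  exact ⟨j, hG Γ(D.obj j.left, D.map j.hom ⁻¹ᵁ V₀) ψ⟩

/-- Transversal regularity along a limit (structure sheaf). -/
theorem transRegular_iff_exists_stage (hc : IsLimit c) {X₀ : Scheme.{u}} (g₀ : X₀ ⟶ D.obj i₀) [CompactSpace X₀]
    [LocallyOfFinitePresentation g₀] (fs : List Γ(X₀, ⊤)) :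
    (∀ x, TRAt (pullback.snd g₀ (c.π.app i₀)) (fs.map fun f => (pullback.fst g₀ (c.π.app i₀)).appTop.hom f) x) ↔
      ∃ j : Over i₀, ∀ x, TRAt (pullback.snd g₀ (D.map j.hom))
        (fs.map fun f => (pullback.fst g₀ (D.map j.hom)).appTop.hom f) x := by
  classical
  haveI : IsAffineHom (c.π.app i₀) := isAffineHom_π_app D c hc i₀
  have hex : ∀ x : X₀, ∃ (V₀ : (D.obj i₀).Opens) (U₀ : X₀.Opens) (_ : IsAffineOpen V₀) (_ : IsAffineOpen U₀)
      (_ : U₀ ≤ g₀ ⁻¹ᵁ V₀), x ∈ U₀ := fun x => by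
    obtain ⟨V₀, hV₀, hxV, -⟩ := exists_isAffineOpen_mem_and_subset (U := (⊤ : (D.obj i₀).Opens)) (x := g₀ x) trivial
    obtain ⟨U₀, hU₀, hxU, hle⟩ := exists_isAffineOpen_mem_and_subset (U := g₀ ⁻¹ᵁ V₀) (x := x) hxV
    exact ⟨V₀, U₀, hV₀, hU₀, hle, hxU⟩
  choose V U hV hU he hxU using hex
  obtain ⟨s, hs⟩ := isCompact_univ.elim_finite_subcover (fun x => (U x : Set X₀)) (fun x => (U x).2)
    fun x _ => Set.mem_iUnion.2 ⟨x, hxU x⟩
  have hcov : ∀ y : X₀, ∃ x ∈ s, y ∈ U x := fun y => by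
    obtain ⟨x, hx, hy⟩ := Set.mem_iUnion₂.1 (hs (Set.mem_univ y))
    exact ⟨x, hx, hy⟩
  constructor
  · intro h
    have hj : ∀ x, ∃ j : Over i₀, ChartTR g₀ fs (he x) (D.map j.hom) := fun x =>
      exists_chart_stage hc g₀ fs (hV x) (hU x) (he x)
        ((chartTR_iff g₀ fs (hV x) (hU x) (he x) _).2 fun y _ => h y)
    choose j hj using hj
    obtain ⟨k, hk⟩ := IsCofiltered.inf_objs_exists (s.image j)
    refine ⟨k, fun y => ?_⟩
    obtain ⟨x, hx, hy⟩ := hcov (pullback.fst g₀ (D.map k.hom) y)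
    obtain ⟨φ⟩ := hk (Finset.mem_image_of_mem j hx)
    exact (chartTR_iff g₀ fs (hV x) (hU x) (he x) _).1
      (ChartTR.baseChange g₀ fs (he x) (D.map φ.left) (by rw [← D.map_comp, Over.w φ]) (hj x)) y hy
  · rintro ⟨j, h⟩ y
    obtain ⟨x, -, hy⟩ := hcov (pullback.fst g₀ (c.π.app i₀) y)
    exact (chartTR_iff g₀ fs (hV x) (hU x) (he x) _).1
      (ChartTR.baseChange g₀ fs (he x) (c.π.app j.left) (c.w j.hom)
        ((chartTR_iff g₀ fs (hV x) (hU x) (he x) (D.map j.hom)).2 fun z _ => h z)) y hy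

end Limit

end Groth.Agent.LimTR12
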