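import Groth.Agent.LimTR12.ImmAlg
import Groth.Agent.LimTR12.Scheme
import Groth.Agent.RegImm44.Affine

/-!
# Transversally regular immersions and limits of schemes
-/

set_option autoImplicit false
set_option linter.style.haveILetI false
universe u

open CategoryTheory CategoryTheory.Limits AlgebraicGeometry TopologicalSpace
open scoped TensorProduct

namespace Groth.Agent.LimTR12

/-- Extensions of ideals along inverse isomorphisms. -/
theorem map_symm_eq {G C C' : Type u} [CommRing G] [CommRing C] [CommRing C'] [Algebra G C] [Algebra G C']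
    (e : C ≃ₐ[G] C') {J : Ideal C} {J' : Ideal C'} (h : J.map e = J') : J'.map e.symm = J := by
  rw [← h, ← Ideal.map_coe e, ← Ideal.map_coe e.symm, Ideal.map_map,
    show ((e.symm : C' →+* C)).comp (e : C →+* C') = RingHom.id C from RingHom.ext e.symm_apply_apply, Ideal.map_id]

variable {X T Y : Scheme.{u}}

/-- The germs of sections over `U` are transversally regular relative to the base at `x`. -/
def TRAt' (g : X ⟶ T) {U : X.Opens} (rs : List Γ(X, U)) (x : X) (hx : x ∈ U) : Prop :=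
  @RegImm.IsTransRegularSeq (T.presheaf.stalk (g x)) (X.presheaf.stalk x) _ _ (g.stalkMap x).hom.toAlgebra
    (rs.map (X.presheaf.germ U x hx).hom)

/-- Transversal regularity of sections over an affine open is pointwise. -/
theorem chart_iff' (g : X ⟶ T) {V : T.Opens} {U : X.Opens} (hV : IsAffineOpen V) (hU : IsAffineOpen U)
    (e : U ≤ g ⁻¹ᵁ V) (rs : List Γ(X, U)) :
    @RegImm.IsTransRegularSeq Γ(T, V) Γ(X, U) _ _ (g.appLE V U e).hom.toAlgebra rs ↔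
      ∀ x (hx : x ∈ U), TRAt' g rs x hx := by
  letI := (g.appLE V U e).hom.toAlgebra
  have hloc : ∀ (x : X) (hx : x ∈ U),
      letI : Algebra Γ(T, V) (X.presheaf.stalk x) := ((X.presheaf.germ U x hx).hom.comp (g.appLE V U e).hom).toAlgebra
      RegImm.IsTransRegularSeq Γ(T, V) (X.presheaf.stalk x) (rs.map (X.presheaf.germ U x hx).hom) ↔
        TRAt' g rs x hx := by
    intro x hx
    letI : Algebra (T.presheaf.stalk (g x)) (X.presheaf.stalk x) := (g.stalkMap x).hom.toAlgebra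
    letI : Algebra Γ(T, V) (X.presheaf.stalk x) := ((X.presheaf.germ U x hx).hom.comp (g.appLE V U e).hom).toAlgebra
    letI := T.presheaf.algebra_section_stalk ⟨g x, e hx⟩
    haveI : IsLocalization.AtPrime (T.presheaf.stalk (g x)) (hV.primeIdealOf ⟨g x, e hx⟩).asIdeal :=
      hV.isLocalization_stalk ⟨g x, e hx⟩
    haveI : IsScalarTower Γ(T, V) (T.presheaf.stalk (g x)) (X.presheaf.stalk x) := by
      refine IsScalarTower.of_algebraMap_eq fun a => ?_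
      show X.presheaf.germ U x hx (g.appLE V U e a) = g.stalkMap x (T.presheaf.germ V (g x) (e hx) a)
      rw [Scheme.Hom.germ_stalkMap_apply, Scheme.Hom.appLE, CommRingCat.comp_apply]
      exact X.presheaf.germ_res_apply _ x hx _
    exact (isTransRegularSeq_base_iff (hV.primeIdealOf ⟨g x, e hx⟩).asIdeal.primeCompl (T.presheaf.stalk (g x)) _).symm
  constructor
  · intro h x hx
    refine (hloc x hx).1 ?_
    letI := X.presheaf.algebra_section_stalk ⟨x, hx⟩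
    letI : Algebra Γ(T, V) (X.presheaf.stalk x) := ((X.presheaf.germ U x hx).hom.comp (g.appLE V U e).hom).toAlgebra
    haveI : IsScalarTower Γ(T, V) Γ(X, U) (X.presheaf.stalk x) := IsScalarTower.of_algebraMap_eq fun _ => rfl
    haveI : IsLocalization.AtPrime (X.presheaf.stalk x) (hU.primeIdealOf ⟨x, hx⟩).asIdeal :=
      hU.isLocalization_stalk ⟨x, hx⟩
    exact isTransRegularSeq_localization (hU.primeIdealOf ⟨x, hx⟩).asIdeal.primeCompl (X.presheaf.stalk x) h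
  · intro h
    refine isTransRegularSeq_of_forall_maximal fun q hq => ?_
    let y : PrimeSpectrum Γ(X, U) := ⟨q, inferInstance⟩
    have hx : hU.fromSpec y ∈ U := hU.range_fromSpec.le ⟨y, rfl⟩
    letI := X.presheaf.algebra_section_stalk ⟨hU.fromSpec y, hx⟩
    letI : Algebra Γ(T, V) (X.presheaf.stalk (hU.fromSpec y)) :=
      ((X.presheaf.germ U _ hx).hom.comp (g.appLE V U e).hom).toAlgebra
    exact ⟨X.presheaf.stalk (hU.fromSpec y), inferInstance, inferInstance, hU.isLocalization_stalk' y hx,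
      inferInstance, IsScalarTower.of_algebraMap_eq fun _ => rfl, (hloc _ hx).2 (h _ hx)⟩

/-- Transversal regularity restricts to smaller affine opens, over any affine of the base. -/
theorem trs_restrict (g : X ⟶ T) {V V' : T.Opens} {U U' : X.Opens} (hV : IsAffineOpen V) (hU : IsAffineOpen U)
    (hV' : IsAffineOpen V') (hU' : IsAffineOpen U') (e : U ≤ g ⁻¹ᵁ V) (e' : U' ≤ g ⁻¹ᵁ V') (hle : U' ≤ U)
    {rs : List Γ(X, U)} (h : @RegImm.IsTransRegularSeq Γ(T, V) Γ(X, U) _ _ (g.appLE V U e).hom.toAlgebra rs) :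
    @RegImm.IsTransRegularSeq Γ(T, V') Γ(X, U') _ _ (g.appLE V' U' e').hom.toAlgebra
      (rs.map (X.presheaf.map (homOfLE hle).op).hom) := by
  refine (chart_iff' g hV' hU' e' _).2 fun x hx => ?_
  have h1 := (chart_iff' g hV hU e rs).1 h x (hle hx)
  unfold TRAt' at h1 ⊢
  rw [List.map_map]
  convert h1 using 1
  exact List.map_congr_left fun f _ => X.presheaf.germ_res_apply (homOfLE hle) x hx f

/-- `Cov` of the ideal of a closed piece is the pointwise condition. -/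
theorem cov_iff (g : X ⟶ T) (i : Y ⟶ X) {V : T.Opens} {U : X.Opens} (hV : IsAffineOpen V) (hU : IsAffineOpen U)
    (e : U ≤ g ⁻¹ᵁ V) [IsClosedImmersion (i ∣_ U)] :
    @Cov Γ(T, V) Γ(X, U) _ _ (g.appLE V U e).hom.toAlgebra (RingHom.ker (i.app U).hom) ↔
      ∀ z, i z ∈ U → RegImm.IsTransRegularImmersionAt g i z := by
  letI := (g.appLE V U e).hom.toAlgebra
  constructor
  · intro h z hz
    obtain ⟨f, hf, rs, hrs, hJ⟩ := h _ (RegImm44.ker_le_primeIdealOf i hU z hz)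
    haveI := hU.isLocalization_basicOpen f
    have hD : X.basicOpen f ≤ U := X.basicOpen_le f
    letI := (g.appLE V (X.basicOpen f) (hD.trans e)).hom.toAlgebra
    haveI : IsScalarTower Γ(T, V) Γ(X, U) Γ(X, X.basicOpen f) := IsScalarTower.of_algebraMap_eq fun r =>
      (congr($(Scheme.Hom.appLE_map g e (homOfLE hD).op) r)).symm
    let φ : Localization.Away f ≃ₐ[Γ(X, U)] Γ(X, X.basicOpen f) := IsLocalization.algEquiv (Submonoid.powers f) _ _
    refine ⟨⟨_, hU.basicOpen f⟩, ⟨V, hV⟩, hD.trans e, (RegImm44.mem_basicOpen_iff hU ⟨i z, hz⟩ f).2 hf,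
      RegImm44.isClosedImmersion_restrict_of_le i hD, rs.map φ, ?_, ?_⟩
    · exact isTransRegularSeq_congr (φ.restrictScalars Γ(T, V)) rfl hrs
    · rw [RegImm44.ker_app_restrict i hU (hU.basicOpen f) hD]
      show _ = Ideal.ofList (rs.map (φ : Localization.Away f →+* Γ(X, X.basicOpen f)))
      rw [← Ideal.map_ofList, ← hJ, Ideal.map_map]
      exact congrArg (Ideal.map · _) (RingHom.ext fun a => (φ.commutes a).symm)
  · intro h q hq
    obtain ⟨z, hz⟩ := RegImm44.exists_preimage_of_ker_le i hU q hq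
    have hzU : i z ∈ U := by
      rw [hz, ← SetLike.mem_coe, ← hU.range_fromSpec]; exact ⟨q, rfl⟩
    obtain ⟨⟨U', hU'⟩, ⟨V', hV'⟩, e', hzU', hci, rs, hrs, hker⟩ := h z hzU
    haveI := hci
    obtain ⟨f, f', hff', hxf⟩ := exists_basicOpen_le_affine_inter hU hU' (i z) ⟨hzU, hzU'⟩
    have hD : X.basicOpen f ≤ U := X.basicOpen_le f
    have hD' : X.basicOpen f ≤ U' := hff' ▸ X.basicOpen_le f'
    refine ⟨f, ?_, ?_⟩
    · rw [hz] at hxf
      have h1 : q ∈ hU.fromSpec ⁻¹ᵁ X.basicOpen f := hxf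
      rw [hU.fromSpec_preimage_basicOpen] at h1
      exact h1
    haveI := hU.isLocalization_basicOpen f
    letI := (g.appLE V (X.basicOpen f) (hD.trans e)).hom.toAlgebra
    haveI : IsScalarTower Γ(T, V) Γ(X, U) Γ(X, X.basicOpen f) := IsScalarTower.of_algebraMap_eq fun r =>
      (congr($(Scheme.Hom.appLE_map g e (homOfLE hD).op) r)).symm
    let φ : Γ(X, X.basicOpen f) ≃ₐ[Γ(X, U)] Localization.Away f := IsLocalization.algEquiv (Submonoid.powers f) _ _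
    refine ⟨_, isTransRegularSeq_congr (φ.restrictScalars Γ(T, V)) rfl
      (trs_restrict g hV' hU' hV (hU.basicOpen f) e' (hD.trans e) hD' hrs), ?_⟩
    show _ = Ideal.ofList ((rs.map (X.presheaf.map (homOfLE hD').op).hom).map
      (φ : Γ(X, X.basicOpen f) →+* Localization.Away f))
    rw [← Ideal.map_ofList, ← Ideal.map_ofList, ← hker, ← RegImm44.ker_app_restrict i hU' (hU.basicOpen f) hD',
      RegImm44.ker_app_restrict i hU (hU.basicOpen f) hD, Ideal.map_map]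
    exact congrArg (Ideal.map · _) (RingHom.ext fun a => (φ.commutes a).symm)

section Pullback

variable {X₀ S₀ Y₀ : Scheme.{u}} (g₀ : X₀ ⟶ S₀) (j₀ : Y₀ ⟶ X₀) {V₀ : S₀.Opens} {U₀ : X₀.Opens}
  (hV₀ : IsAffineOpen V₀) (hU₀ : IsAffineOpen U₀) (e₀ : U₀ ≤ g₀ ⁻¹ᵁ V₀)

/-- The condition on the chart of a base change. -/
def ChartCov (h : T ⟶ S₀) : Prop :=
  letI := (g₀.appLE V₀ U₀ e₀).hom.toAlgebra
  letI := (h.app V₀).hom.toAlgebra
  Cov Γ(T, h ⁻¹ᵁ V₀) (Γ(T, h ⁻¹ᵁ V₀) ⊗[Γ(S₀, V₀)] Γ(X₀, U₀))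
    (extI (R := Γ(S₀, V₀)) Γ(T, h ⁻¹ᵁ V₀) (RingHom.ker (j₀.app U₀).hom))

include hV₀ hU₀ in
/-- The pullback of a chart. -/
theorem chartCov_iff (h : T ⟶ S₀) [IsAffineHom h] [IsClosedImmersion (j₀ ∣_ U₀)] :
    ChartCov g₀ j₀ e₀ h ↔ ∀ z, pullback.fst g₀ h (pullback.snd j₀ (pullback.fst g₀ h) z) ∈ U₀ →
      RegImm.IsTransRegularImmersionAt (pullback.snd g₀ h) (pullback.snd j₀ (pullback.fst g₀ h)) z := by
  haveI : IsAffineHom (pullback.fst g₀ h) := MorphismProperty.pullback_fst (P := @IsAffineHom) _ _ inferInstance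
  obtain ⟨e, hpush⟩ := Thick.Unram.isPushout_appLE (IsPullback.of_hasPullback g₀ h) hV₀ hU₀ e₀
  have hU : IsAffineOpen (pullback.fst g₀ h ⁻¹ᵁ U₀) := hU₀.preimage _
  have hsq := IsPullback.of_hasPullback j₀ (pullback.fst g₀ h)
  haveI := RegImm44.isClosedImmersion_restrict hsq (le_refl (pullback.fst g₀ h ⁻¹ᵁ U₀))
  refine Iff.trans ?_ (cov_iff (pullback.snd g₀ h) (pullback.snd j₀ (pullback.fst g₀ h)) (hV₀.preimage h) hU e)
  rw [RegImm44.ker_app_baseChange hsq hU₀ hU (le_refl _), ← Scheme.Hom.app_eq_appLE]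
  letI := (g₀.appLE V₀ U₀ e₀).hom.toAlgebra
  letI := (h.app V₀).hom.toAlgebra
  let B' := Γ(pullback g₀ h, pullback.fst g₀ h ⁻¹ᵁ U₀)
  letI : Algebra Γ(T, h ⁻¹ᵁ V₀) B' := ((pullback.snd g₀ h).appLE _ _ e).hom.toAlgebra
  letI : Algebra Γ(X₀, U₀) B' := ((pullback.fst g₀ h).app U₀).hom.toAlgebra
  letI : Algebra Γ(S₀, V₀) B' := (g₀.appLE V₀ U₀ e₀ ≫ (pullback.fst g₀ h).app U₀).hom.toAlgebra
  haveI : IsScalarTower Γ(S₀, V₀) Γ(X₀, U₀) B' := IsScalarTower.of_algebraMap_eq fun _ => rfl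
  haveI : IsScalarTower Γ(S₀, V₀) Γ(T, h ⁻¹ᵁ V₀) B' :=
    IsScalarTower.of_algebraMap_eq fun r => congrArg (fun φ => φ.hom r) hpush.w
  haveI : Algebra.IsPushout Γ(S₀, V₀) Γ(T, h ⁻¹ᵁ V₀) Γ(X₀, U₀) B' :=
    CommRingCat.isPushout_iff_isPushout.1 hpush.flip
  let E := Algebra.IsPushout.equiv Γ(S₀, V₀) Γ(T, h ⁻¹ᵁ V₀) Γ(X₀, U₀) B'
  have hE : ∀ x : Γ(X₀, U₀), E ((1 : Γ(T, h ⁻¹ᵁ V₀)) ⊗ₜ[Γ(S₀, V₀)] x) = algebraMap Γ(X₀, U₀) B' x := fun x => by
    rw [← Algebra.IsPushout.equiv_symm_algebraMap_right Γ(S₀, V₀) Γ(T, h ⁻¹ᵁ V₀) Γ(X₀, U₀) B',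
      AlgEquiv.apply_symm_apply]
  have hJ : (extI (R := Γ(S₀, V₀)) Γ(T, h ⁻¹ᵁ V₀) (RingHom.ker (j₀.app U₀).hom)).map E =
      (RingHom.ker (j₀.app U₀).hom).map ((pullback.fst g₀ h).app U₀).hom := by
    rw [← Ideal.map_coe E, map_map']
    exact congrArg (Ideal.map · _) (RingHom.ext hE)
  exact ⟨Cov.congr E hJ, Cov.congr E.symm (map_symm_eq E hJ)⟩

/-- Base change of charts. -/
theorem ChartCov.baseChange {T' : Scheme.{u}} {h : T ⟶ S₀} {h' : T' ⟶ S₀} (t : T' ⟶ T) (ht : t ≫ h = h')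
    (H : ChartCov g₀ j₀ e₀ h) : ChartCov g₀ j₀ e₀ h' := by
  letI := (g₀.appLE V₀ U₀ e₀).hom.toAlgebra
  letI := (h.app V₀).hom.toAlgebra
  letI := (h'.app V₀).hom.toAlgebra
  have et : h' ⁻¹ᵁ V₀ ≤ t ⁻¹ᵁ (h ⁻¹ᵁ V₀) := by subst ht; exact le_rfl
  let φ : Γ(T, h ⁻¹ᵁ V₀) →ₐ[Γ(S₀, V₀)] Γ(T', h' ⁻¹ᵁ V₀) :=
    { (t.appLE (h ⁻¹ᵁ V₀) (h' ⁻¹ᵁ V₀) et).hom with
      commutes' := fun r => by
        have key : h.app V₀ ≫ t.appLE (h ⁻¹ᵁ V₀) (h' ⁻¹ᵁ V₀) et = h'.app V₀ := by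
          subst ht
          rw [Scheme.Hom.comp_app]
          simp [Scheme.Hom.appLE]
        exact congr($key r) }
  exact Cov.mapBase φ H

end Pullback

/-- Descent of `Cov` to a stage. -/
theorem exists_stage_cov {A₀ B A : Type u} [CommRing A₀] [CommRing B] [Algebra A₀ B]
    [Algebra.FinitePresentation A₀ B] [CommRing A] [Algebra A₀ A] (I : Ideal B) (hI : I.FG)
    (h : Cov A (A ⊗[A₀] B) (extI (R := A₀) A I)) :
    ∃ R₁ : Subalgebra ℤ A₀, IsNoetherianRing R₁ ∧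
      ∃ S : Subalgebra R₁ A, S.FG ∧ ∀ (G : Type u) [CommRing G] [Algebra A₀ G],
        ∀ _ψ : S →ₐ[R₁] G, Cov G (G ⊗[A₀] B) (extI (R := A₀) G I) := by
  classical
  obtain ⟨gens, hgens⟩ := hI
  obtain ⟨R₁, B₁, _, _, _, _, hR₁, hft, hpo, hc⟩ := FlatOpen.exists_ring_model A₀ B gens
  haveI := hft
  haveI : IsNoetherianRing R₁ := isNoetherianRing_of_fg hR₁
  refine ⟨R₁, inferInstance, ?_⟩
  let I₁ : Ideal B₁ := Ideal.span ((gens.attach.image fun x => (hc x.1 x.2).choose : Finset B₁) : Set B₁)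
  have hI₁ : I₁.map (algebraMap B₁ B) = I := by
    rw [← hgens, Ideal.map_span, ← Finset.coe_image, Finset.image_image]
    refine congrArg (fun t : Finset B => Ideal.span (t : Set B)) (?_ : _ = gens)
    conv_rhs => rw [← Finset.attach_image_val (s := gens)]
    exact Finset.image_congr fun x _ => (hc x.1 x.2).choose_spec
  haveI := hpo
  let eB : A₀ ⊗[R₁] B₁ ≃ₐ[A₀] B := Algebra.IsPushout.equiv R₁ A₀ B₁ B
  have key : ∀ (G : Type u) [CommRing G] [Algebra A₀ G],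
      Cov G (G ⊗[A₀] B) (extI (R := A₀) G I) ↔ Cov G (G ⊗[R₁] B₁) (extI (R := R₁) G I₁) := by
    intro G _ _
    let e : G ⊗[A₀] B ≃ₐ[G] G ⊗[R₁] B₁ :=
      (Algebra.TensorProduct.congr (AlgEquiv.refl : G ≃ₐ[G] G) eB.symm).trans
        (Algebra.TensorProduct.cancelBaseChange R₁ A₀ G G B₁)
    have he : (extI (R := A₀) G I).map e = extI (R := R₁) G I₁ := by
      rw [extI, extI, ← hI₁, ← Ideal.map_coe e, map_map', Ideal.map_map, ← Ideal.map_coe (Algebra.TensorProduct.includeRight : B₁ →ₐ[R₁] G ⊗[R₁] B₁)]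
      refine congrArg (Ideal.map · I₁) (RingHom.ext fun b => ?_)
      simp [e, eB, Algebra.IsPushout.equiv_symm_algebraMap_right]
    exact ⟨Cov.congr e he, Cov.congr e.symm (map_symm_eq e he)⟩
  obtain ⟨S, hS, hCov⟩ := ((key A).1 h).descend ⟨_, rfl⟩
  exact ⟨S, hS, fun G _ _ ψ => (key G).2 (hCov.mapBase ψ)⟩

section Limit

variable {I : Type u} [SmallCategory I] [IsCofiltered I] {D : I ⥤ Scheme.{u}} {c : Cone D}
  [∀ (i j : I) (f : i ⟶ j), IsAffineHom (D.map f)] {i₀ : I}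

/-- The condition on a chart at the limit is attained at a stage. -/
theorem exists_cov_stage (hc : IsLimit c) {X₀ Y₀ : Scheme.{u}} (g₀ : X₀ ⟶ D.obj i₀)
    [LocallyOfFinitePresentation g₀] (j₀ : Y₀ ⟶ X₀) [LocallyOfFinitePresentation j₀] {V₀ : (D.obj i₀).Opens}
    {U₀ : X₀.Opens} (hV₀ : IsAffineOpen V₀) (hU₀ : IsAffineOpen U₀) [IsClosedImmersion (j₀ ∣_ U₀)]
    (e₀ : U₀ ≤ g₀ ⁻¹ᵁ V₀) (h : ChartCov g₀ j₀ e₀ (c.π.app i₀)) : ∃ j : Over i₀, ChartCov g₀ j₀ e₀ (D.map j.hom) := by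
  letI := (g₀.appLE V₀ U₀ e₀).hom.toAlgebra
  letI := ((c.π.app i₀).app V₀).hom.toAlgebra
  haveI : Algebra.FinitePresentation Γ(D.obj i₀, V₀) Γ(X₀, U₀) := g₀.finitePresentation_appLE hV₀ hU₀ e₀
  have hfg : (RingHom.ker (j₀.app U₀).hom).FG := by
    have h1 : (j₀.appLE U₀ (j₀ ⁻¹ᵁ U₀) le_rfl).hom.FinitePresentation :=
      HasRingHomProperty.appLE @LocallyOfFinitePresentation j₀ ‹_› ⟨U₀, hU₀⟩
        ⟨_, RegImm44.isAffineOpen_preimage j₀ hU₀⟩ le_rfl
    rw [← Scheme.Hom.app_eq_appLE] at h1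
    letI := (j₀.app U₀).hom.toAlgebra
    haveI : Algebra.FinitePresentation Γ(X₀, U₀) Γ(Y₀, j₀ ⁻¹ᵁ U₀) := h1
    exact Algebra.FinitePresentation.ker_fG_of_surjective (Algebra.ofId Γ(X₀, U₀) Γ(Y₀, j₀ ⁻¹ᵁ U₀))
      (RegImm44.app_surjective j₀ hU₀)
  obtain ⟨R₁, hR₁, S, hS, hG⟩ := exists_stage_cov _ hfg h
  haveI := hR₁
  obtain ⟨j, ψ, -⟩ := Fibres16.LimCrit.exists_stage_algHom (R₀ := R₁) hc hV₀ S hS
  letI := ((D.map j.hom).app V₀).hom.toAlgebra
  exact ⟨j, hG Γ(D.obj j.left, D.map j.hom ⁻¹ᵁ V₀) ψ⟩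

/-- Transversally regular immersions along a limit. -/
theorem transRegularImmersion_iff_exists_stage (hc : IsLimit c) {X₀ Y₀ : Scheme.{u}} (g₀ : X₀ ⟶ D.obj i₀)
    [LocallyOfFinitePresentation g₀] (j₀ : Y₀ ⟶ X₀) [CompactSpace Y₀] [IsImmersion j₀]
    [LocallyOfFinitePresentation j₀] :
    RegImm.IsTransRegularImmersion (pullback.snd g₀ (c.π.app i₀)) (pullback.snd j₀ (pullback.fst g₀ (c.π.app i₀))) ↔
      ∃ j : Over i₀, RegImm.IsTransRegularImmersion (pullback.snd g₀ (D.map j.hom))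
        (pullback.snd j₀ (pullback.fst g₀ (D.map j.hom))) := by
  classical
  haveI : IsAffineHom (c.π.app i₀) := isAffineHom_π_app D c hc i₀
  have hex : ∀ y : Y₀, ∃ (V₀ : (D.obj i₀).Opens) (U₀ : X₀.Opens) (_ : IsAffineOpen V₀) (_ : IsAffineOpen U₀)
      (_ : U₀ ≤ g₀ ⁻¹ᵁ V₀) (_ : IsClosedImmersion (j₀ ∣_ U₀)), j₀ y ∈ U₀ := fun y => by
    obtain ⟨V₀, hV₀, hxV, -⟩ := exists_isAffineOpen_mem_and_subset (U := (⊤ : (D.obj i₀).Opens)) (x := g₀ (j₀ y)) trivial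
    obtain ⟨U', hU', hyU', hcl⟩ := RegImm44.exists_chart j₀ y
    obtain ⟨U₀, hU₀, hxU, hle⟩ := exists_isAffineOpen_mem_and_subset (U := g₀ ⁻¹ᵁ V₀ ⊓ U') (x := j₀ y) ⟨hxV, hyU'⟩
    haveI := hcl
    exact ⟨V₀, U₀, hV₀, hU₀, fun x hx => (hle hx).1,
      RegImm44.isClosedImmersion_restrict_of_le j₀ (fun x hx => (hle hx).2), hxU⟩
  choose V U hV hU he hcl hyU using hex
  obtain ⟨s, hs⟩ := isCompact_univ.elim_finite_subcover (fun y => (j₀ ⁻¹ᵁ U y : Set Y₀)) (fun y => (j₀ ⁻¹ᵁ U y).2)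
    fun y _ => Set.mem_iUnion.2 ⟨y, hyU y⟩
  have hcov : ∀ {T : Scheme.{u}} (h : T ⟶ D.obj i₀) (z : ↥(pullback j₀ (pullback.fst g₀ h))),
      ∃ y ∈ s, pullback.fst g₀ h (pullback.snd j₀ (pullback.fst g₀ h) z) ∈ U y := fun h z => by
    obtain ⟨y, hy, hz⟩ := Set.mem_iUnion₂.1 (hs (Set.mem_univ (pullback.fst j₀ (pullback.fst g₀ h) z)))
    refine ⟨y, hy, ?_⟩
    rw [← Scheme.Hom.comp_apply, ← pullback.condition, Scheme.Hom.comp_apply]
    exact hz
  constructor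
  · intro h
    have hj : ∀ y, ∃ j : Over i₀, ChartCov g₀ j₀ (he y) (D.map j.hom) := fun y => by
      haveI := hcl y
      exact exists_cov_stage hc g₀ j₀ (hV y) (hU y) (he y)
        ((chartCov_iff g₀ j₀ (hV y) (hU y) (he y) _).2 fun z _ => h.2 z)
    choose j hj using hj
    obtain ⟨k, hk⟩ := IsCofiltered.inf_objs_exists (s.image j)
    refine ⟨k, MorphismProperty.pullback_snd (P := @IsImmersion) _ _ inferInstance, fun z => ?_⟩
    obtain ⟨y, hy, hz⟩ := hcov _ z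
    obtain ⟨φ⟩ := hk (Finset.mem_image_of_mem j hy)
    haveI := hcl y
    exact (chartCov_iff g₀ j₀ (hV y) (hU y) (he y) _).1
      (ChartCov.baseChange g₀ j₀ (he y) (D.map φ.left) (by rw [← D.map_comp, Over.w φ]) (hj y)) z hz
  · rintro ⟨j, h⟩
    refine ⟨MorphismProperty.pullback_snd (P := @IsImmersion) _ _ inferInstance, fun z => ?_⟩
    obtain ⟨y, -, hz⟩ := hcov _ z
    haveI := hcl y
    exact (chartCov_iff g₀ j₀ (hV y) (hU y) (he y) _).1
      (ChartCov.baseChange g₀ j₀ (he y) (c.π.app j.left) (c.w j.hom)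
        ((chartCov_iff g₀ j₀ (hV y) (hU y) (he y) (D.map j.hom)).2 fun z' _ => h.2 z')) z hz

end Limit

end Groth.Agent.LimTR12
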