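import Groth.Agent.LimTR12.WeakReg
import Groth.Agent.LimTR12.ImmAlg
import Groth.Agent.RegImm44.Affine
import Groth.Prelude.Def_RegImm

/-!
# Regular immersions and flat limits of schemes
-/

set_option autoImplicit false
set_option linter.style.haveILetI false
universe u

open CategoryTheory CategoryTheory.Limits AlgebraicGeometry TopologicalSpace RingTheory.Sequence
open scoped TensorProduct

namespace Groth.Agent.LimTR12.Reg

/-- The images of `l` in the localization at `a` form a weakly regular sequence. -/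
def WR {A : Type u} [CommRing A] (a : A) (l : List A) : Prop :=
  IsWeaklyRegular (Localization.Away a) (l.map (algebraMap A (Localization.Away a)))

/-- `V(J)` is covered by `D(g)` on which `J` is generated by a weakly regular sequence. -/
def RCond {A : Type u} [CommRing A] (J : Ideal A) : Prop :=
  ∀ q : PrimeSpectrum A, J ≤ q.asIdeal → ∃ g, g ∉ q.asIdeal ∧ ∃ rs : List (Localization.Away g),
    IsWeaklyRegular (Localization.Away g) rs ∧ J.map (algebraMap A (Localization.Away g)) = Ideal.ofList rs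

/-- Flat base change. -/
theorem RCond.baseChange {G H : Type u} [CommRing G] [CommRing H] [Algebra G H] [Module.Flat G H] {J : Ideal G}
    (h : RCond J) : RCond (J.map (algebraMap G H)) := by
  intro q hq
  obtain ⟨g, hg, rs, hrs, hJ⟩ := h ⟨q.asIdeal.comap (algebraMap G H), Ideal.comap_isPrime _ _⟩
    (Ideal.map_le_iff_le_comap.1 hq)
  obtain ⟨_, _, _, hc⟩ := exists_away_pushout (G := G) (G' := H) (C := G) (C' := H) g
  haveI : Algebra.IsPushout G (Localization.Away g) H (Localization.Away (algebraMap G H g)) :=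
    Algebra.IsPushout.symm inferInstance
  haveI : Module.Flat (Localization.Away g) (Localization.Away (algebraMap G H g)) :=
    Module.Flat.of_linearEquiv
      (Algebra.IsPushout.equiv G (Localization.Away g) H (Localization.Away (algebraMap G H g))).toLinearEquiv.symm
  refine ⟨algebraMap G H g, hg, _, hrs.of_flat (S := Localization.Away (algebraMap G H g)), ?_⟩
  rw [Ideal.map_map, ← Ideal.map_ofList, ← hJ, Ideal.map_map]
  exact congrArg (Ideal.map · J) (RingHom.ext fun c => (hc c).symm)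

/-- Multiplying a weakly regular sequence by units. -/
theorem mul_units {L : Type u} [CommRing L] (f : L → Lˣ) {rs : List L} (h : IsWeaklyRegular L rs) :
    IsWeaklyRegular L (rs.map fun r => r * (f r : L)) ∧
      Ideal.ofList (rs.map fun r => r * (f r : L)) = Ideal.ofList rs := by
  have key : ∀ l : List L, Ideal.ofList (l.map fun r => r * (f r : L)) = Ideal.ofList l := fun l => by
    refine le_antisymm (Ideal.span_le.2 ?_) (Ideal.span_le.2 ?_)
    · intro x hx
      obtain ⟨r, hr, rfl⟩ := List.mem_map.1 hx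
      exact Ideal.mul_mem_right _ _ (Ideal.subset_span hr)
    · intro r hr
      exact (Ideal.mul_unit_mem_iff_mem _ (f r).isUnit).1 (Ideal.subset_span (List.mem_map.2 ⟨r, hr, rfl⟩))
  refine ⟨⟨fun j hj => ?_⟩, key rs⟩
  have hj' : j < rs.length := by simpa using hj
  simp only [List.getElem_map]
  rw [← List.map_take, key]
  exact (h.regular_mod_prev j hj').mul ((f rs[j]).isUnit.isSMulRegular _)

/-- Numerators of a weakly regular sequence in a localization. -/
theorem exists_numerators {A : Type u} [CommRing A] (g : A) {rs : List (Localization.Away g)}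
    (h : IsWeaklyRegular (Localization.Away g) rs) :
    ∃ xs : List A, WR g xs ∧ Ideal.ofList (xs.map (algebraMap A (Localization.Away g))) = Ideal.ofList rs := by
  choose num hnum using fun r : Localization.Away g => IsLocalization.surj (Submonoid.powers g) r
  let f : Localization.Away g → (Localization.Away g)ˣ := fun r =>
    (IsLocalization.map_units (Localization.Away g) (num r).2).unit
  obtain ⟨h1, h2⟩ := mul_units f h
  have hxs : (rs.map fun r => (num r).1).map (algebraMap A (Localization.Away g)) =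
      rs.map fun r => r * (f r : Localization.Away g) := by
    rw [List.map_map]
    exact List.map_congr_left fun r _ => (hnum r).symm
  refine ⟨rs.map fun r => (num r).1, ?_, ?_⟩
  · unfold WR
    rw [hxs]
    exact h1
  · rw [hxs, h2]

section Descend

variable {R A : Type u} [CommRing R] [CommRing A] [Algebra R A]

/-- Membership in an ideal comes from a finitely generated subalgebra. -/
theorem exists_fg_mem_span {ι : Type*} [Fintype ι] (a : A) (b : ι → A) (h : a ∈ Ideal.span (Set.range b)) :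
    ∃ S : Subalgebra R A, S.FG ∧ a ∈ S ∧ (∀ i, b i ∈ S) ∧ ∀ (T : Subalgebra R A), S ≤ T → ∀ (a' : T) (b' : ι → T),
      (a' : A) = a → (∀ i, (b' i : A) = b i) → a' ∈ Ideal.span (Set.range b') := by
  classical
  obtain ⟨c, hc⟩ := Ideal.mem_span_range_iff_exists_fun.1 h
  refine ⟨Algebra.adjoin R ↑(insert a (Finset.univ.image b ∪ Finset.univ.image c)), ⟨_, rfl⟩,
    Algebra.subset_adjoin (by simp), fun i => Algebra.subset_adjoin (by simp), fun T hT a' b' ha hb => ?_⟩
  refine Ideal.mem_span_range_iff_exists_fun.2 ⟨fun i => ⟨c i, hT (Algebra.subset_adjoin (by simp))⟩,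
    Subtype.ext ?_⟩
  refine (AddSubmonoidClass.coe_finsetSum _ _).trans (Eq.trans ?_ (hc.trans ha.symm))
  exact Finset.sum_congr rfl fun i _ => by rw [MulMemClass.coe_mul, hb]

/-- Data presenting `J` by regular sequences after mapping to `A`. -/
def RData {G : Type u} [CommRing G] (J : Ideal G) (φ : G →+* A) : Prop :=
  ∃ (s : Finset (G × List G)), J ⊔ Ideal.span (Prod.fst '' (s : Set (G × List G))) = ⊤ ∧ ∀ p ∈ s,
    J.map (algebraMap G (Localization.Away p.1)) =
        Ideal.ofList (p.2.map (algebraMap G (Localization.Away p.1))) ∧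
      WR (φ p.1) (p.2.map φ)

/-- The data descend to a finitely generated subalgebra. -/
theorem exists_data {r : ℕ} (γ : Fin r → R) (h : RCond ((Ideal.span (Set.range γ)).map (algebraMap R A))) :
    ∃ S : Subalgebra R A, S.FG ∧ ∀ (G : Type u) [CommRing G] [Algebra R G] (φ : G →+* A) (ψ : S →ₐ[R] G),
      (∀ z, φ (ψ z) = (z : A)) → RData ((Ideal.span (Set.range γ)).map (algebraMap R G)) φ := by
  classical
  let J := (Ideal.span (Set.range γ)).map (algebraMap R A)
  have hJ : J = Ideal.span (Set.range fun i => algebraMap R A (γ i)) := by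
    show Ideal.map _ _ = _
    rw [Ideal.map_span, ← Set.range_comp]
    rfl
  let good : Set (A × List A) := {p | WR p.1 p.2 ∧
    J.map (algebraMap A (Localization.Away p.1)) = Ideal.ofList (p.2.map (algebraMap A (Localization.Away p.1)))}
  have htop : J ⊔ Ideal.span (Prod.fst '' good) = ⊤ := by
    by_contra hne
    obtain ⟨m, hm, hle⟩ := Ideal.exists_le_maximal _ hne
    obtain ⟨g, hg, rs, hrs, hJrs⟩ := h ⟨m, hm.isPrime⟩ (le_sup_left.trans hle)
    obtain ⟨xs, hxs, hxs'⟩ := exists_numerators g hrs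
    exact hg (hle (Ideal.mem_sup_right (Ideal.subset_span ⟨(g, xs), ⟨hxs, hJrs.trans hxs'.symm⟩, rfl⟩)))
  obtain ⟨y, hy, z, hz, hyz⟩ := Submodule.mem_sup.1 (htop.ge (Submodule.mem_top (x := (1 : A))))
  obtain ⟨t, ht, hzt⟩ := Submodule.mem_span_finite_of_mem_span hz
  have hpick : ∀ a : t, ∃ p ∈ good, p.1 = a.1 := fun a => ht a.2
  choose P hPgood hPfst using hpick
  have hone : (1 : A) ∈ Ideal.span (Set.range (Sum.elim (fun i => algebraMap R A (γ i)) fun a : t => a.1)) := by
    rw [← hyz, Set.Sum.elim_range, Ideal.span_union]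
    refine Submodule.add_mem_sup (hJ ▸ hy) ?_
    rw [Subtype.range_coe_subtype]
    exact hzt
  obtain ⟨S₀, hS₀, -, hS₀b, hS₀c⟩ := exists_fg_mem_span (R := R) 1 _ hone
  -- the witnesses on each piece
  have hper : ∀ a : t, ∃ S : Subalgebra R A, S.FG ∧ (P a).1 ∈ S ∧ (∀ x ∈ (P a).2, x ∈ S) ∧
      ∀ (G : Type u) [CommRing G] [Algebra R G] (T : Subalgebra R A), S ≤ T → ∀ (ψ : T →ₐ[R] G)
        (g' : T) (xs' : List T), (g' : A) = (P a).1 → xs'.map T.val = (P a).2 →
        ((Ideal.span (Set.range γ)).map (algebraMap R G)).map (algebraMap G (Localization.Away (ψ g'))) =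
          Ideal.ofList ((xs'.map ψ).map (algebraMap G (Localization.Away (ψ g')))) := by
    intro a
    obtain ⟨hwr, heq⟩ := hPgood a
    let g := (P a).1
    let xs := (P a).2
    have h1 : ∀ x : {x // x ∈ xs}, ∃ n : ℕ, g ^ n * x.1 ∈ Ideal.span (Set.range fun i => algebraMap R A (γ i)) := fun x => by
      have := heq.ge (Ideal.subset_span (List.mem_map.2 ⟨x.1, x.2, rfl⟩))
      rw [IsLocalization.algebraMap_mem_map_algebraMap_iff (Submonoid.powers g)] at this
      obtain ⟨_, ⟨n, rfl⟩, hn⟩ := this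
      exact ⟨n, hJ ▸ hn⟩
    have h2 : ∀ i : Fin r, ∃ n : ℕ, g ^ n * algebraMap R A (γ i) ∈
        Ideal.span (Set.range fun k : Fin xs.length => xs[k.1]) := fun i => by
      have hi : algebraMap R A (γ i) ∈ J := Ideal.mem_map_of_mem _ (Ideal.subset_span ⟨i, rfl⟩)
      have := heq.le (Ideal.mem_map_of_mem _ hi)
      rw [← Ideal.map_ofList, IsLocalization.algebraMap_mem_map_algebraMap_iff (Submonoid.powers g)] at this
      obtain ⟨_, ⟨n, rfl⟩, hn⟩ := this
      refine ⟨n, Ideal.span_mono ?_ hn⟩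
      intro x hx
      obtain ⟨k, hk, rfl⟩ := List.getElem_of_mem hx
      exact ⟨⟨k, hk⟩, rfl⟩
    choose n₁ hn₁ using h1
    choose n₂ hn₂ using h2
    choose U₁ hU₁ _ _ hU₁c using fun x => exists_fg_mem_span (R := R) _ _ (hn₁ x)
    choose U₂ hU₂ _ _ hU₂c using fun i => exists_fg_mem_span (R := R) _ _ (hn₂ i)
    obtain ⟨S, hS, hgS, hxS, hle₁, hle₂⟩ : ∃ S : Subalgebra R A, S.FG ∧ g ∈ S ∧ (∀ x ∈ xs, x ∈ S) ∧
        (∀ x, U₁ x ≤ S) ∧ ∀ i, U₂ i ≤ S :=
      ⟨Algebra.adjoin R ↑(insert g xs.toFinset) ⊔ xs.attach.toFinset.sup U₁ ⊔ Finset.univ.sup U₂,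
        ((Subalgebra.FG.sup ⟨_, rfl⟩ (Finset.sup_induction (p := fun S : Subalgebra R A => S.FG) Subalgebra.fg_bot
          (fun _ ha _ hb => ha.sup hb) fun x _ => hU₁ x))).sup (Finset.sup_induction
            (p := fun S : Subalgebra R A => S.FG) Subalgebra.fg_bot (fun _ ha _ hb => ha.sup hb) fun i _ => hU₂ i),
        (le_sup_left.trans le_sup_left : Algebra.adjoin R (↑(insert g xs.toFinset) : Set A) ≤ _) (Algebra.subset_adjoin (by simp)),
        fun x hx => (le_sup_left.trans le_sup_left : Algebra.adjoin R (↑(insert g xs.toFinset) : Set A) ≤ _) (Algebra.subset_adjoin (by simp [hx])),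
        fun x => ((Finset.le_sup (f := U₁) (List.mem_toFinset.2 (xs.mem_attach x))).trans le_sup_right).trans le_sup_left,
        fun i => (Finset.le_sup (f := U₂) (Finset.mem_univ i)).trans le_sup_right⟩
    refine ⟨S, hS, hgS, hxS, fun G _ _ T hT ψ g' xs' hg' hxs' => ?_⟩
    have hmem : ∀ (n : ℕ) (x : T) (K : Ideal G), ψ (g' ^ n * x) ∈ K →
        algebraMap G (Localization.Away (ψ g')) (ψ x) ∈ K.map (algebraMap G (Localization.Away (ψ g'))) :=
      fun n x K hx => by
        rw [IsLocalization.algebraMap_mem_map_algebraMap_iff (Submonoid.powers (ψ g'))]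
        exact ⟨ψ g' ^ n, ⟨n, rfl⟩, by rwa [← map_pow, ← map_mul]⟩
    refine le_antisymm ?_ ?_
    · rw [Ideal.map_map, Ideal.map_span, Ideal.span_le, ← Ideal.map_ofList]
      rintro _ ⟨_, ⟨i, rfl⟩, rfl⟩
      have hlen : xs'.length = xs.length := by
        show xs'.length = (P a).2.length
        rw [← hxs', List.length_map]
      have h3 := hU₂c i T ((hle₂ i).trans hT) (g' ^ n₂ i * algebraMap R T (γ i))
        (fun k => xs'[k.1]'(by rw [hlen]; exact k.2)) (by simp [g, hg']) fun k => by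
          simp only [xs, ← hxs', List.getElem_map]
          rfl
      have h4 := Ideal.mem_map_of_mem ψ h3
      rw [SetLike.mem_coe, RingHom.comp_apply, show algebraMap G (Localization.Away (ψ g')) (algebraMap R G (γ i)) =
        algebraMap G (Localization.Away (ψ g')) (ψ (algebraMap R T (γ i))) by rw [ψ.commutes]]
      refine hmem (n₂ i) _ _ ?_
      refine SetLike.le_def.1 ?_ h4
      rw [Ideal.map_span, Ideal.span_le]
      rintro _ ⟨_, ⟨k, rfl⟩, rfl⟩
      exact Ideal.subset_span (List.mem_map.2 ⟨_, List.getElem_mem _, rfl⟩)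
    · rw [← Ideal.map_ofList, Ideal.map_le_iff_le_comap, Ideal.ofList, Ideal.span_le]
      intro x hx
      obtain ⟨x', hx', rfl⟩ := List.mem_map.1 hx
      have hx'' : (x' : A) ∈ xs := by
        show (x' : A) ∈ (P a).2
        rw [← hxs']
        exact List.mem_map.2 ⟨x', hx', rfl⟩
      have h3 := hU₁c ⟨_, hx''⟩ T ((hle₁ _).trans hT) (g' ^ n₁ ⟨_, hx''⟩ * x') (fun i => algebraMap R T (γ i))
        (by simp [g, hg']) fun i => rfl
      have h4 := Ideal.mem_map_of_mem ψ h3
      refine hmem (n₁ ⟨_, hx''⟩) _ _ (SetLike.le_def.1 ?_ h4)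
      rw [Ideal.map_span, Ideal.span_le]
      rintro _ ⟨_, ⟨i, rfl⟩, rfl⟩
      rw [SetLike.mem_coe, ψ.commutes]
      exact Ideal.mem_map_of_mem _ (Ideal.subset_span ⟨i, rfl⟩)
  choose U hU hUg hUx hUc using hper
  let S := S₀ ⊔ Finset.univ.sup U
  have hle : ∀ a, U a ≤ S := fun a => (Finset.le_sup (f := U) (Finset.mem_univ a)).trans le_sup_right
  refine ⟨S, hS₀.sup (Finset.sup_induction (p := fun S : Subalgebra R A => S.FG) Subalgebra.fg_bot
    (fun _ ha _ hb => ha.sup hb) fun a _ => hU a), fun G _ _ φ ψ hφ => ?_⟩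
  let gS : t → S := fun a => ⟨(P a).1, hle a (hUg a)⟩
  let xS : t → List S := fun a => (P a).2.attach.map fun x => ⟨x.1, hle a (hUx a x.1 x.2)⟩
  have hxS : ∀ a, (xS a).map S.val = (P a).2 := fun a => by
    simp only [xS, List.map_map]
    exact List.attach_map_subtype_val _
  refine ⟨Finset.univ.image fun a => (ψ (gS a), (xS a).map ψ), ?_, fun p hp => ?_⟩
  · rw [Ideal.eq_top_iff_one]
    have h3 := hS₀c S le_sup_left 1 (Sum.elim (fun i => algebraMap R S (γ i)) gS) rfl (by
      rintro (i | a)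
      · rfl
      · exact hPfst a)
    have h4 := Ideal.mem_map_of_mem ψ h3
    rw [map_one] at h4
    refine SetLike.le_def.1 ?_ h4
    rw [Ideal.map_span, Ideal.span_le]
    rintro _ ⟨_, ⟨i | a, rfl⟩, rfl⟩
    · refine Ideal.mem_sup_left ?_
      show ψ (algebraMap R S (γ i)) ∈ _
      rw [ψ.commutes]
      exact Ideal.mem_map_of_mem _ (Ideal.subset_span ⟨i, rfl⟩)
    · exact Ideal.mem_sup_right (Ideal.subset_span
        ⟨_, Finset.mem_coe.2 (Finset.mem_image.2 ⟨a, Finset.mem_univ a, rfl⟩), rfl⟩)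
  · obtain ⟨a, -, rfl⟩ := Finset.mem_image.1 hp
    refine ⟨hUc a G S (hle a) ψ (gS a) (xS a) rfl (hxS a), ?_⟩
    dsimp only
    rw [hφ, List.map_map, show ((φ : G → A) ∘ ψ) = S.val from funext hφ, hxS]
    exact (hPgood a).1

/-- With faithful flatness the data already give the condition. -/
theorem RData.rcond_of_faithfullyFlat {G : Type u} [CommRing G] [Algebra G A] [Module.FaithfullyFlat G A]
    {J : Ideal G} (h : RData J (algebraMap G A)) : RCond J := by
  classical
  obtain ⟨s, hs, hdata⟩ := h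
  intro q hq
  obtain ⟨p, hp, hpq⟩ : ∃ p ∈ s, p.1 ∉ q.asIdeal := by
    by_contra hcon
    push Not at hcon
    refine q.2.ne_top (top_le_iff.1 (hs.ge.trans (sup_le hq (Ideal.span_le.2 ?_))))
    intro x hx
    obtain ⟨p, hp, rfl⟩ := hx
    exact hcon p hp
  obtain ⟨he, hwr⟩ := hdata p hp
  refine ⟨p.1, hpq, _, ?_, he⟩
  obtain ⟨_, _, _, hc⟩ := exists_away_pushout (G := G) (G' := A) (C := G) (C' := A) p.1
  haveI : Algebra.IsPushout G (Localization.Away p.1) A (Localization.Away (algebraMap G A p.1)) :=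
    Algebra.IsPushout.symm inferInstance
  haveI : Module.FaithfullyFlat (Localization.Away p.1) (Localization.Away (algebraMap G A p.1)) :=
    Module.FaithfullyFlat.of_linearEquiv _ _
      (Algebra.IsPushout.equiv G (Localization.Away p.1) A (Localization.Away (algebraMap G A p.1))).toLinearEquiv.symm
  refine WeakReg.isWeaklyRegular_of_faithfullyFlat (G := Localization.Away (algebraMap G A p.1)) ?_
  unfold WR at hwr
  rw [List.map_map] at hwr ⊢
  exact (congrArg (IsWeaklyRegular _) (List.map_congr_left fun x _ => hc x)).mpr hwr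

/-- Over a Noetherian ring the regularity reaches a finitely generated subalgebra. -/
theorem exists_fg_wr {G : Type u} [CommRing G] [IsNoetherianRing G] [Algebra G A] [Module.Flat G A] (g : G)
    (xs : List G) (h : WR (algebraMap G A g) (xs.map (algebraMap G A))) :
    ∃ S : Subalgebra G A, S.FG ∧ ∀ (H : Type u) [CommRing H] [Algebra G H] [Module.Flat G H],
      (S →ₐ[G] H) → WR (algebraMap G H g) (xs.map (algebraMap G H)) := by
  classical
  let L := Localization.Away g
  obtain ⟨_, _, _, hc⟩ := exists_away_pushout (G := G) (G' := A) (C := G) (C' := A) g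
  haveI : IsNoetherianRing L := IsLocalization.isNoetherianRing (Submonoid.powers g) L inferInstance
  haveI : Algebra.IsPushout G L A (Localization.Away (algebraMap G A g)) := Algebra.IsPushout.symm inferInstance
  haveI : Module.Flat L (Localization.Away (algebraMap G A g)) :=
    Module.Flat.of_linearEquiv (Algebra.IsPushout.equiv G L A (Localization.Away (algebraMap G A g))).toLinearEquiv.symm
  let rs : List L := xs.map (algebraMap G L)
  have h1 : IsWeaklyRegular (Localization.Away (algebraMap G A g))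
      (rs.map (algebraMap L (Localization.Away (algebraMap G A g)))) := by
    unfold WR at h
    rw [List.map_map] at h ⊢
    convert h using 1
    exact List.map_congr_left fun x _ => hc x
  have hobs := (WeakReg.isWeaklyRegular_map_iff (G := Localization.Away (algebraMap G A g)) rs).1 h1
  have hk : ∀ (j : Fin rs.length) (k : WeakReg.obs rs j), ∃ S : Subalgebra G A, S.FG ∧ ∀ (H : Type u) [CommRing H]
      [Algebra G H], (S →ₐ[G] H) → (1 : H) ⊗ₜ[G] k = 0 := fun j k => by
    haveI := hobs j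
    let E : (Localization.Away (algebraMap G A g)) ⊗[L] WeakReg.obs rs j ≃ₗ[A] A ⊗[G] WeakReg.obs rs j :=
      Algebra.IsPushout.cancelBaseChange G A L (Localization.Away (algebraMap G A g)) (WeakReg.obs rs j)
    haveI : Subsingleton (A ⊗[G] WeakReg.obs rs j) := E.symm.toEquiv.subsingleton
    obtain ⟨S, hle, hS, h0⟩ := exists_fg_eq_zero (R := G) (⊥ : Subalgebra G A) Subalgebra.fg_bot
      ((1 : (⊥ : Subalgebra G A)) ⊗ₜ[G] k) (Subsingleton.elim _ _)
    refine ⟨S, hS, fun H _ _ ψ => ?_⟩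
    have h2 := congrArg (ψ.toLinearMap.rTensor (WeakReg.obs rs j)) h0
    simpa using h2
  choose U hU hUk using hk
  choose gens hgens using fun j : Fin rs.length => IsNoetherian.noetherian (⊤ : Submodule L (WeakReg.obs rs j))
  refine ⟨Finset.univ.sup fun j => (gens j).sup (U j), Finset.sup_induction (p := fun S : Subalgebra G A => S.FG)
    Subalgebra.fg_bot (fun _ ha _ hb => ha.sup hb) fun j _ => Finset.sup_induction (p := fun S : Subalgebra G A => S.FG)
      Subalgebra.fg_bot (fun _ ha _ hb => ha.sup hb) fun k _ => hU j k, fun H _ _ _ ψ => ?_⟩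
  obtain ⟨_, _, _, hcH⟩ := exists_away_pushout (G := G) (G' := H) (C := G) (C' := H) g
  haveI : Algebra.IsPushout G L H (Localization.Away (algebraMap G H g)) := Algebra.IsPushout.symm inferInstance
  haveI : Module.Flat L (Localization.Away (algebraMap G H g)) :=
    Module.Flat.of_linearEquiv (Algebra.IsPushout.equiv G L H (Localization.Away (algebraMap G H g))).toLinearEquiv.symm
  have h2 : IsWeaklyRegular (Localization.Away (algebraMap G H g))
      (rs.map (algebraMap L (Localization.Away (algebraMap G H g)))) := by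
    refine (WeakReg.isWeaklyRegular_map_iff (G := Localization.Away (algebraMap G H g)) rs).2 fun j => ?_
    let E : (Localization.Away (algebraMap G H g)) ⊗[L] WeakReg.obs rs j ≃ₗ[H] H ⊗[G] WeakReg.obs rs j :=
      Algebra.IsPushout.cancelBaseChange G H L (Localization.Away (algebraMap G H g)) (WeakReg.obs rs j)
    refine subsingleton_of_forall_eq 0 fun z => ?_
    induction z using TensorProduct.induction_on with
    | zero => rfl
    | add a b ha hb => rw [ha, hb, add_zero]
    | tmul a k =>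
      have hk' : k ∈ Submodule.span L (gens j : Set (WeakReg.obs rs j)) := hgens j ▸ Submodule.mem_top
      rw [← mul_one a, ← smul_eq_mul, ← TensorProduct.smul_tmul']
      have h0 : (1 : Localization.Away (algebraMap G H g)) ⊗ₜ[L] k = 0 := by
        induction hk' using Submodule.span_induction with
        | mem x hx =>
          apply E.injective
          rw [map_zero, show E ((1 : Localization.Away (algebraMap G H g)) ⊗ₜ[L] x) = (1 : H) ⊗ₜ[G] x from
            Algebra.IsPushout.cancelBaseChange_tmul G H L (Localization.Away (algebraMap G H g)) (WeakReg.obs rs j) x]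
          exact hUk j x H (ψ.comp (Subalgebra.inclusion ((Finset.le_sup (f := U j) hx).trans
            (Finset.le_sup (f := fun j => (gens j).sup (U j)) (Finset.mem_univ j)))))
        | zero => rw [TensorProduct.tmul_zero]
        | add a b _ _ ha hb => rw [TensorProduct.tmul_add, ha, hb, add_zero]
        | smul c x _ hx => rw [TensorProduct.tmul_smul, hx, smul_zero]
      rw [h0, smul_zero]
  unfold WR
  rw [List.map_map] at h2 ⊢
  convert h2 using 1
  exact List.map_congr_left fun x _ => (hcH x).symm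

/-- Over a Noetherian ring, the data give the condition at a finitely generated subalgebra. -/
theorem RData.exists_fg_rcond {G : Type u} [CommRing G] [IsNoetherianRing G] [Algebra G A] [Module.Flat G A]
    {J : Ideal G} (h : RData J (algebraMap G A)) :
    ∃ S : Subalgebra G A, S.FG ∧ ∀ (H : Type u) [CommRing H] [Algebra G H] [Module.Flat G H],
      (S →ₐ[G] H) → RCond (J.map (algebraMap G H)) := by
  classical
  obtain ⟨s, hs, hdata⟩ := h
  choose U hU hUH using fun p : s => exists_fg_wr p.1.1 p.1.2 (hdata p.1 p.2).2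
  refine ⟨Finset.univ.sup U, Finset.sup_induction (p := fun S : Subalgebra G A => S.FG) Subalgebra.fg_bot
    (fun _ ha _ hb => ha.sup hb) (fun p _ => hU p), fun H _ _ _ ψ q hq => ?_⟩
  obtain ⟨p, hp, hpq⟩ : ∃ p ∈ s, algebraMap G H p.1 ∉ q.asIdeal := by
    by_contra hcon
    push Not at hcon
    refine q.2.ne_top ?_
    rw [Ideal.eq_top_iff_one, ← map_one (algebraMap G H)]
    refine Ideal.map_le_iff_le_comap.1 ((le_of_eq (Ideal.map_sup _ _ _)).trans (sup_le hq ?_))
      (hs.ge (Submodule.mem_top (x := (1 : G))))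
    rw [Ideal.map_span, Ideal.span_le]
    rintro _ ⟨x, hx, rfl⟩
    obtain ⟨p, hp, rfl⟩ := hx
    exact hcon p hp
  refine ⟨_, hpq, _, hUH ⟨p, hp⟩ H (ψ.comp (Subalgebra.inclusion (Finset.le_sup (f := U) (Finset.mem_univ _)))), ?_⟩
  obtain ⟨_, _, _, hc⟩ := exists_away_pushout (G := G) (G' := H) (C := G) (C' := H) p.1
  have hmap := congrArg (Ideal.map (algebraMap (Localization.Away p.1) (Localization.Away (algebraMap G H p.1))))
    (hdata p hp).1
  rw [Ideal.map_map, Ideal.map_ofList, List.map_map] at hmap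
  rw [Ideal.map_map, List.map_map]
  refine Eq.trans ?_ (hmap.trans (congrArg Ideal.ofList (List.map_congr_left fun x _ => hc x)))
  exact congrArg (Ideal.map · J) (RingHom.ext fun x => (hc x).symm)

end Descend

section Scheme

variable {X Y : Scheme.{u}}

/-- The chart criterion. -/
theorem rcond_iff (i : Y ⟶ X) {U : X.Opens} (hU : IsAffineOpen U) [IsClosedImmersion (i ∣_ U)] :
    RCond (RingHom.ker (i.app U).hom) ↔ ∀ z, i z ∈ U → RegImm.IsRegularImmersionAt RegImm.Kind.regular i z := by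
  constructor
  · intro h z hz
    obtain ⟨f, hf, rs, hrs, hJ⟩ := h _ (RegImm44.ker_le_primeIdealOf i hU z hz)
    haveI := hU.isLocalization_basicOpen f
    have hD : X.basicOpen f ≤ U := X.basicOpen_le f
    let φ : Localization.Away f ≃ₐ[Γ(X, U)] Γ(X, X.basicOpen f) := IsLocalization.algEquiv (Submonoid.powers f) _ _
    letI := φ.toRingEquiv.toRingHom.toAlgebra
    haveI : Module.Flat (Localization.Away f) Γ(X, X.basicOpen f) := RingHom.Flat.of_bijective (f := φ.toRingEquiv.toRingHom) φ.bijective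
    have hz' : i z ∈ X.basicOpen f := (RegImm44.mem_basicOpen_iff hU ⟨i z, hz⟩ f).2 hf
    have hker : RingHom.ker (i.app (X.basicOpen f)).hom = Ideal.ofList (rs.map (algebraMap (Localization.Away f) _)) := by
      rw [RegImm44.ker_app_restrict i hU (hU.basicOpen f) hD, ← Ideal.map_ofList, ← hJ, Ideal.map_map]
      exact congrArg (Ideal.map · _) (RingHom.ext fun a => (φ.commutes a).symm)
    haveI := RegImm44.isClosedImmersion_restrict_of_le i hD
    refine ⟨⟨_, hU.basicOpen f⟩, hz', inferInstance, _, ⟨hrs.of_flat (S := Γ(X, X.basicOpen f)), ?_⟩, hker⟩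
    intro htop
    rw [Ideal.smul_eq_mul, Ideal.mul_top, ← hker] at htop
    exact ((hU.basicOpen f).primeIdealOf ⟨i z, hz'⟩).2.ne_top
      (top_le_iff.1 (htop.le.trans (RegImm44.ker_le_primeIdealOf i (hU.basicOpen f) z hz')))
  · intro h q hq
    obtain ⟨z, hz⟩ := RegImm44.exists_preimage_of_ker_le i hU q hq
    have hzU : i z ∈ U := by
      rw [hz, ← SetLike.mem_coe, ← hU.range_fromSpec]; exact ⟨q, rfl⟩
    obtain ⟨⟨U', hU'⟩, hzU', hci, rs, hrs, hker⟩ := h z hzU
    haveI := hci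
    obtain ⟨f, f', hff', hxf⟩ := exists_basicOpen_le_affine_inter hU hU' (i z) ⟨hzU, hzU'⟩
    have hD : X.basicOpen f ≤ U := X.basicOpen_le f
    have hD' : X.basicOpen f ≤ U' := hff' ▸ X.basicOpen_le f'
    refine ⟨f, ?_, ?_⟩
    · rw [hz] at hxf
      have h1 : q ∈ hU.fromSpec ⁻¹ᵁ X.basicOpen f := hxf
      rw [hU.fromSpec_preimage_basicOpen] at h1
      exact h1
    haveI := hU.isLocalization_basicOpen f
    let φ : Γ(X, X.basicOpen f) ≃ₐ[Γ(X, U)] Localization.Away f := IsLocalization.algEquiv (Submonoid.powers f) _ _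
    let ρ := (X.presheaf.map (homOfLE hD').op).hom
    letI := (φ.toRingEquiv.toRingHom.comp ρ).toAlgebra
    haveI : Module.Flat Γ(X, U') (Localization.Away f) := by
      have hρ : ρ.Flat := by
        have := (𝟙 X : X ⟶ X).flat_appLE hU' (hU.basicOpen f) (show X.basicOpen f ≤ (𝟙 X : X ⟶ X) ⁻¹ᵁ U' from hD')
        rwa [show (𝟙 X : X ⟶ X).appLE U' (X.basicOpen f) hD' = X.presheaf.map (homOfLE hD').op from by
          simp [Scheme.Hom.appLE]; exact Category.id_comp _] at this
      exact hρ.comp (RingHom.Flat.of_bijective φ.bijective)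
    refine ⟨_, hrs.toIsWeaklyRegular.of_flat (S := Localization.Away f), ?_⟩
    rw [← Ideal.map_ofList, ← hker]
    show _ = Ideal.map (φ.toRingEquiv.toRingHom.comp ρ) _
    rw [← Ideal.map_map, ← RegImm44.ker_app_restrict i hU' (hU.basicOpen f) hD',
      RegImm44.ker_app_restrict i hU (hU.basicOpen f) hD, Ideal.map_map]
    exact congrArg (Ideal.map · _) (RingHom.ext fun a => (φ.commutes a).symm)

variable {X₀ S₀ : Scheme.{u}} (j₀ : X₀ ⟶ S₀) {V₀ : S₀.Opens} (hV₀ : IsAffineOpen V₀)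

include hV₀ in
/-- The chart criterion for a base change. -/
theorem rcond_pullback_iff [IsClosedImmersion (j₀ ∣_ V₀)] {T : Scheme.{u}} (h : T ⟶ S₀) [IsAffineHom h] :
    RCond ((RingHom.ker (j₀.app V₀).hom).map (h.app V₀).hom) ↔
      ∀ z, h (pullback.snd j₀ h z) ∈ V₀ →
        RegImm.IsRegularImmersionAt RegImm.Kind.regular (pullback.snd j₀ h) z := by
  have hsq := IsPullback.of_hasPullback j₀ h
  haveI := RegImm44.isClosedImmersion_restrict hsq (le_refl (h ⁻¹ᵁ V₀))
  refine Iff.trans ?_ (rcond_iff (pullback.snd j₀ h) (hV₀.preimage h))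
  rw [RegImm44.ker_app_baseChange hsq hV₀ (hV₀.preimage h) (le_refl _), ← Scheme.Hom.app_eq_appLE]

end Scheme

section Limit

variable {I : Type u} [SmallCategory I] [IsCofiltered I] {D : I ⥤ Scheme.{u}} {c : Cone D}
  [∀ (i j : I) (f : i ⟶ j), IsAffineHom (D.map f)] {i₀ : I}

/-- A chart is attained at a stage. -/
theorem exists_rcond_stage (hc : IsLimit c) (hflat : ∀ (i j : I) (f : i ⟶ j), Flat (D.map f))
    (hflat' : ∀ i, Flat (c.π.app i)) {V₀ : (D.obj i₀).Opens} (hV₀ : IsAffineOpen V₀)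
    (J : Ideal Γ(D.obj i₀, V₀)) (hJ : J.FG)
    (hcase : (∀ i, IsLocallyNoetherian (D.obj i)) ∨ ∀ i, Surjective (c.π.app i))
    (h : RCond (A := Γ(c.pt, c.π.app i₀ ⁻¹ᵁ V₀)) (J.map ((c.π.app i₀).app V₀).hom)) :
    ∃ j : Over i₀, RCond (J.map ((D.map j.hom).app V₀).hom) := by
  classical
  obtain ⟨r, γ, hγ⟩ := Submodule.fg_iff_exists_fin_generating_family.1 hJ
  let R₁ : Subalgebra ℤ Γ(D.obj i₀, V₀) := Algebra.adjoin ℤ (Set.range γ)
  haveI : IsNoetherianRing R₁ :=
    isNoetherianRing_of_fg ⟨Finset.univ.image γ, by rw [Finset.coe_image, Finset.coe_univ, Set.image_univ]⟩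
  let γ₁ : Fin r → R₁ := fun i => ⟨γ i, Algebra.subset_adjoin ⟨i, rfl⟩⟩
  have hγ₁ : J = (Ideal.span (Set.range γ₁)).map (algebraMap R₁ Γ(D.obj i₀, V₀)) := by
    rw [Ideal.map_span, ← Set.range_comp, ← hγ]
    rfl
  letI : Algebra R₁ Γ(c.pt, c.π.app i₀ ⁻¹ᵁ V₀) := Fibres16.LimCrit.gAlg (c.π.app i₀) (V₀ := V₀) R₁
  obtain ⟨S, hS, hdata⟩ := exists_data (A := Γ(c.pt, c.π.app i₀ ⁻¹ᵁ V₀)) γ₁ (by
    rw [hγ₁, Ideal.map_map] at h
    exact h)
  obtain ⟨j, ψ, hψ⟩ := Fibres16.LimCrit.exists_stage_algHom (R₀ := R₁) hc hV₀ S hS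
  letI : Algebra R₁ Γ(D.obj j.left, D.map j.hom ⁻¹ᵁ V₀) := Fibres16.LimCrit.gAlg (D.map j.hom) (V₀ := V₀) R₁
  let φ : Γ(D.obj j.left, D.map j.hom ⁻¹ᵁ V₀) →+* Γ(c.pt, c.π.app i₀ ⁻¹ᵁ V₀) :=
    ((c.π.app j.left).appLE _ _ (LimTop.preimage_le _ _ (c.w j.hom))).hom
  have hd := hdata Γ(D.obj j.left, D.map j.hom ⁻¹ᵁ V₀) φ ψ hψ
  have hJj : J.map ((D.map j.hom).app V₀).hom =
      (Ideal.span (Set.range γ₁)).map (algebraMap R₁ Γ(D.obj j.left, D.map j.hom ⁻¹ᵁ V₀)) := by
    rw [hγ₁, Ideal.map_map]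
    rfl
  rw [← hJj] at hd
  haveI : IsAffineHom (c.π.app j.left) := isAffineHom_π_app D c hc j.left
  have hW : IsAffineOpen (D.map j.hom ⁻¹ᵁ V₀) := hV₀.preimage _
  have hpre : c.π.app i₀ ⁻¹ᵁ V₀ = c.π.app j.left ⁻¹ᵁ (D.map j.hom ⁻¹ᵁ V₀) := by
    rw [← Scheme.Hom.comp_preimage, c.w j.hom]
  -- move to the cone over `j`
  have key : ∀ {U : c.pt.Opens} (e : U ≤ c.π.app j.left ⁻¹ᵁ (D.map j.hom ⁻¹ᵁ V₀)),
      U = c.π.app j.left ⁻¹ᵁ (D.map j.hom ⁻¹ᵁ V₀) →
      RData (A := Γ(c.pt, U)) (J.map ((D.map j.hom).app V₀).hom) ((c.π.app j.left).appLE _ U e).hom →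
      RData (A := Γ(c.pt, c.π.app j.left ⁻¹ᵁ (D.map j.hom ⁻¹ᵁ V₀))) (J.map ((D.map j.hom).app V₀).hom)
        ((c.π.app j.left).app (D.map j.hom ⁻¹ᵁ V₀)).hom := by
    intro U e he hd'
    subst he
    simpa only [Scheme.Hom.app_eq_appLE] using hd'
  have hd' := key _ hpre hd
  haveI := hflat' j.left
  letI : Algebra Γ(D.obj j.left, D.map j.hom ⁻¹ᵁ V₀) Γ(c.pt, c.π.app j.left ⁻¹ᵁ (D.map j.hom ⁻¹ᵁ V₀)) :=
    ((c.π.app j.left).app (D.map j.hom ⁻¹ᵁ V₀)).hom.toAlgebra
  haveI : Module.Flat Γ(D.obj j.left, D.map j.hom ⁻¹ᵁ V₀) Γ(c.pt, c.π.app j.left ⁻¹ᵁ (D.map j.hom ⁻¹ᵁ V₀)) :=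
    WeakReg.flat_app (T := c.pt) (c.π.app j.left) hW
  rcases hcase with hN | hs
  · haveI := hN j.left
    haveI : IsNoetherianRing Γ(D.obj j.left, D.map j.hom ⁻¹ᵁ V₀) := IsLocallyNoetherian.component_noetherian ⟨_, hW⟩
    obtain ⟨S', hS', hH⟩ := hd'.exists_fg_rcond
    obtain ⟨k, ψ', -⟩ := Fibres16.LimCrit.exists_stage_algHom (i₀ := j.left)
      (R₀ := Γ(D.obj j.left, D.map j.hom ⁻¹ᵁ V₀)) hc hW S' hS'
    haveI := hflat _ _ k.hom
    letI := ((D.map k.hom).app (D.map j.hom ⁻¹ᵁ V₀)).hom.toAlgebra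
    haveI : Module.Flat Γ(D.obj j.left, D.map j.hom ⁻¹ᵁ V₀) Γ(D.obj k.left, D.map k.hom ⁻¹ᵁ (D.map j.hom ⁻¹ᵁ V₀)) :=
      WeakReg.flat_app (D.map k.hom) hW
    refine ⟨Over.mk (k.hom ≫ j.hom), ?_⟩
    have h2 := hH Γ(D.obj k.left, D.map k.hom ⁻¹ᵁ (D.map j.hom ⁻¹ᵁ V₀)) ψ'
    have key2 : ∀ (m : D.obj k.left ⟶ D.obj i₀), m = D.map k.hom ≫ D.map j.hom →
        RCond (J.map (m.app V₀).hom) := by
      rintro m rfl
      rw [Scheme.Hom.comp_app]
      show RCond (J.map ((((D.map k.hom).app (D.map j.hom ⁻¹ᵁ V₀)).hom).comp ((D.map j.hom).app V₀).hom))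
      rw [← Ideal.map_map]
      exact h2
    exact key2 _ (D.map_comp k.hom j.hom)
  · haveI := hs j.left
    haveI : Module.FaithfullyFlat Γ(D.obj j.left, D.map j.hom ⁻¹ᵁ V₀)
        Γ(c.pt, c.π.app j.left ⁻¹ᵁ (D.map j.hom ⁻¹ᵁ V₀)) :=
      WeakReg.faithfullyFlat_app (T := c.pt) (c.π.app j.left) hW
    exact ⟨j, hd'.rcond_of_faithfullyFlat⟩

/-- Base change of a chart along flat maps. -/
theorem rcond_baseChange {T T' S₀ : Scheme.{u}} {h : T ⟶ S₀} {h' : T' ⟶ S₀} [IsAffineHom h] [IsAffineHom h']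
    (t : T' ⟶ T) [Flat t] (ht : t ≫ h = h') {V₀ : S₀.Opens} (hV₀ : IsAffineOpen V₀) (J : Ideal Γ(S₀, V₀))
    (H : RCond (J.map (h.app V₀).hom)) : RCond (J.map (h'.app V₀).hom) := by
  have et : h' ⁻¹ᵁ V₀ ≤ t ⁻¹ᵁ (h ⁻¹ᵁ V₀) := by subst ht; exact le_rfl
  letI := (t.appLE (h ⁻¹ᵁ V₀) (h' ⁻¹ᵁ V₀) et).hom.toAlgebra
  haveI : Module.Flat Γ(T, h ⁻¹ᵁ V₀) Γ(T', h' ⁻¹ᵁ V₀) := t.flat_appLE (hV₀.preimage h) (hV₀.preimage h') et
  have h1 := H.baseChange (H := Γ(T', h' ⁻¹ᵁ V₀))
  rw [Ideal.map_map] at h1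
  convert h1 using 2
  have key : h'.app V₀ = h.app V₀ ≫ t.appLE (h ⁻¹ᵁ V₀) (h' ⁻¹ᵁ V₀) et := by
    subst ht
    rw [Scheme.Hom.comp_app]
    simp [Scheme.Hom.appLE]
  rw [key]
  rfl

/-- Regular immersions along a flat limit. -/
theorem regularImmersion_iff_exists_stage (hc : IsLimit c) (hflat : ∀ (i j : I) (f : i ⟶ j), Flat (D.map f))
    (hflat' : ∀ i, Flat (c.π.app i)) {X₀ : Scheme.{u}} (j₀ : X₀ ⟶ D.obj i₀) [CompactSpace X₀] [IsImmersion j₀]
    (hfg : ∀ V₀ : (D.obj i₀).Opens, IsAffineOpen V₀ → IsClosedImmersion (j₀ ∣_ V₀) →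
      (RingHom.ker (j₀.app V₀).hom).FG)
    (hcase : (∀ i, IsLocallyNoetherian (D.obj i)) ∨ ∀ i, Surjective (c.π.app i)) :
    RegImm.IsRegularImmersion RegImm.Kind.regular (pullback.snd j₀ (c.π.app i₀)) ↔
      ∃ j : Over i₀, RegImm.IsRegularImmersion RegImm.Kind.regular (pullback.snd j₀ (D.map j.hom)) := by
  classical
  haveI : IsAffineHom (c.π.app i₀) := isAffineHom_π_app D c hc i₀
  choose V hV hxV hcl using fun x : X₀ => RegImm44.exists_chart j₀ x
  obtain ⟨s, hs⟩ := isCompact_univ.elim_finite_subcover (fun x => (j₀ ⁻¹ᵁ V x : Set X₀)) (fun x => (j₀ ⁻¹ᵁ V x).2)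
    fun x _ => Set.mem_iUnion.2 ⟨x, hxV x⟩
  have hcov : ∀ {T : Scheme.{u}} (h : T ⟶ D.obj i₀) (z : ↥(pullback j₀ h)),
      ∃ x ∈ s, h (pullback.snd j₀ h z) ∈ V x := fun h z => by
    obtain ⟨x, hx, hz⟩ := Set.mem_iUnion₂.1 (hs (Set.mem_univ (pullback.fst j₀ h z)))
    refine ⟨x, hx, ?_⟩
    rw [← Scheme.Hom.comp_apply, ← pullback.condition, Scheme.Hom.comp_apply]
    exact hz
  constructor
  · intro h
    have hj : ∀ x, ∃ j : Over i₀, RCond ((RingHom.ker (j₀.app (V x)).hom).map ((D.map j.hom).app (V x)).hom) := fun x => by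
      haveI := hcl x
      exact exists_rcond_stage hc hflat hflat' (hV x) _ (hfg _ (hV x) (hcl x)) hcase
        ((rcond_pullback_iff j₀ (hV x) _).2 fun z _ => h.2 z)
    choose j hj using hj
    obtain ⟨k, hk⟩ := IsCofiltered.inf_objs_exists (s.image j)
    refine ⟨k, MorphismProperty.pullback_snd (P := @IsImmersion) _ _ inferInstance, fun z => ?_⟩
    obtain ⟨x, hx, hz⟩ := hcov _ z
    obtain ⟨φ⟩ := hk (Finset.mem_image_of_mem j hx)
    haveI := hflat _ _ φ.left
    haveI := hcl x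
    exact (rcond_pullback_iff j₀ (hV x) _).1
      (rcond_baseChange (D.map φ.left) (by rw [← D.map_comp, Over.w φ]) (hV x) _ (hj x)) z hz
  · rintro ⟨j, h⟩
    refine ⟨MorphismProperty.pullback_snd (P := @IsImmersion) _ _ inferInstance, fun z => ?_⟩
    obtain ⟨x, -, hz⟩ := hcov _ z
    haveI := hflat' j.left
    haveI := hcl x
    exact (rcond_pullback_iff j₀ (hV x) _).1
      (rcond_baseChange (c.π.app j.left) (c.w j.hom) (hV x) _
        ((rcond_pullback_iff j₀ (hV x) (D.map j.hom)).2 fun z' _ => h.2 z')) z hz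

end Limit

end Groth.Agent.LimTR12.Reg
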