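import Groth.Agent.LimTR12.Alg
import Groth.Agent.FlatOpen.FibreAPI

/-!
# Transversally regular sequences descend to stages

`exists_stage`: if the images of `fs` in `A ⊗[A₀] B` are transversally regular relative to `A`, the same
holds over every algebra receiving a suitable finitely generated algebra.
-/

set_option autoImplicit false
set_option linter.style.haveILetI false
universe u

open TensorProduct Function

namespace Groth.Agent.LimTR12

/-- Invariance under isomorphisms. -/
theorem isTransRegularSeq_congr {A B B' : Type u} [CommRing A] [CommRing B] [CommRing B'] [Algebra A B]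
    [Algebra A B'] (e : B ≃ₐ[A] B') {rs : List B} {rs' : List B'} (hrs : rs.map e = rs')
    (h : RegImm.IsTransRegularSeq A B rs) : RegImm.IsTransRegularSeq A B' rs' := by
  subst hrs
  have hI : ∀ j, Ideal.ofList ((rs.map e).take j) = (Ideal.ofList (rs.take j)).map (e : B →+* B') := fun j => by
    rw [← List.map_take, Ideal.map_ofList]
    rfl
  refine ⟨⟨fun j hj => ?_⟩, fun j hj => ?_⟩
  · have hj' : j < rs.length := by simpa using hj
    have h0 := h.1.regular_mod_prev j hj'
    simp only [List.getElem_map]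
    rw [isSMulRegular_quotient_iff_mem_of_smul_mem, Ideal.smul_eq_mul, Ideal.mul_top] at h0 ⊢
    rw [hI]
    intro x hx
    obtain ⟨b, rfl⟩ := e.surjective x
    rw [smul_eq_mul, ← map_mul] at hx
    obtain ⟨c, hc, hce⟩ := (Ideal.mem_map_iff_of_surjective (e : B →+* B') e.surjective).1 hx
    have hce' : c = rs[j] * b := e.injective hce
    exact Ideal.mem_map_of_mem _ (h0 b (by rw [smul_eq_mul, ← hce']; exact hc))
  · haveI := h.2 j (by simpa using hj)
    exact Module.Flat.of_linearEquiv (Ideal.quotientEquivAlg (Ideal.ofList (rs.take j)) _ e (hI j)).symm.toLinearEquiv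

/-- Descent to a stage. -/
theorem exists_stage {A₀ B A : Type u} [CommRing A₀] [CommRing B] [Algebra A₀ B]
    [Algebra.FinitePresentation A₀ B] [CommRing A] [Algebra A₀ A] (fs : List B)
    (h : RegImm.IsTransRegularSeq A (A ⊗[A₀] B) (fs.map (Algebra.TensorProduct.includeRight : B →ₐ[A₀] A ⊗[A₀] B))) :
    ∃ R₁ : Subalgebra ℤ A₀, IsNoetherianRing R₁ ∧
      ∃ S : Subalgebra R₁ A, S.FG ∧ ∀ (G : Type u) [CommRing G] [Algebra A₀ G],
        ∀ _ψ : S →ₐ[R₁] G, RegImm.IsTransRegularSeq G (G ⊗[A₀] B)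
          (fs.map (Algebra.TensorProduct.includeRight : B →ₐ[A₀] G ⊗[A₀] B)) := by
  classical
  obtain ⟨R₁, B₁, _, _, _, _, hR₁, hft, hpo, hc⟩ := FlatOpen.exists_ring_model A₀ B fs.toFinset
  haveI := hft
  haveI : IsNoetherianRing R₁ := isNoetherianRing_of_fg hR₁
  refine ⟨R₁, inferInstance, ?_⟩
  obtain ⟨fs₁, hfs₁⟩ : ∃ fs₁ : List B₁, fs₁.map (algebraMap B₁ B) = fs :=
    ⟨fs.attach.map fun x => (hc x.1 (List.mem_toFinset.2 x.2)).choose, by
      rw [List.map_map]
      conv_rhs => rw [← List.attach_map_subtype_val fs]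
      exact List.map_congr_left fun x _ => (hc x.1 (List.mem_toFinset.2 x.2)).choose_spec⟩
  have key : ∀ (G : Type u) [CommRing G] [Algebra A₀ G],
      RegImm.IsTransRegularSeq G (G ⊗[A₀] B) (fs.map (Algebra.TensorProduct.includeRight : B →ₐ[A₀] G ⊗[A₀] B)) ↔
        TRS R₁ B₁ fs₁ G := by
    intro G _ _
    haveI := hpo
    let eB : A₀ ⊗[R₁] B₁ ≃ₐ[A₀] B := Algebra.IsPushout.equiv R₁ A₀ B₁ B
    let e : G ⊗[A₀] B ≃ₐ[G] G ⊗[R₁] B₁ :=
      (Algebra.TensorProduct.congr (AlgEquiv.refl : G ≃ₐ[G] G) eB.symm).trans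
        (Algebra.TensorProduct.cancelBaseChange R₁ A₀ G G B₁)
    have he : (fs.map (Algebra.TensorProduct.includeRight : B →ₐ[A₀] G ⊗[A₀] B)).map e =
        fs₁.map (Algebra.TensorProduct.includeRight : B₁ →ₐ[R₁] G ⊗[R₁] B₁) := by
      rw [← hfs₁, List.map_map, List.map_map]
      refine List.map_congr_left fun b _ => ?_
      simp [e, eB, Algebra.IsPushout.equiv_symm_algebraMap_right]
    rw [← trs_iff]
    refine ⟨isTransRegularSeq_congr e he, isTransRegularSeq_congr e.symm ?_⟩
    rw [← he, List.map_map]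
    simp
  obtain ⟨S, hS, hTRS⟩ := ((key A).1 h).descend
  refine ⟨S, hS, fun G _ _ => ?_⟩
  intro ψ
  letI := ψ.toRingHom.toAlgebra
  haveI : IsScalarTower R₁ S G := IsScalarTower.of_algebraMap_eq fun r => (ψ.commutes r).symm
  exact (key G).2 hTRS.baseChange

end Groth.Agent.LimTR12
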