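import Groth.Agent.LimTR12.Local
import Groth.Agent.LimTR12.Alg
import Groth.Agent.Fibres16.LimCritScheme
import Mathlib.RingTheory.Regular.Flat

/-!
# Weakly regular sections and flat limits of schemes
-/

set_option autoImplicit false
set_option linter.style.haveILetI false
universe u

open CategoryTheory CategoryTheory.Limits AlgebraicGeometry TopologicalSpace RingTheory.Sequence
open scoped TensorProduct

namespace Groth.Agent.LimTR12.WeakReg

variable {A : Type u} [CommRing A]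

/-- Weak regularity is local at maximal ideals. -/
theorem isWeaklyRegular_of_forall_maximal {rs : List A}
    (h : ∀ (q : Ideal A) [q.IsMaximal], ∃ (B' : Type u) (_ : CommRing B') (_ : Algebra A B')
      (_ : IsLocalization.AtPrime B' q), IsWeaklyRegular B' (rs.map (algebraMap A B'))) :
    IsWeaklyRegular A rs := by
  refine ⟨fun j hj => ?_⟩
  rw [isSMulRegular_quotient_iff_mem_of_smul_mem, Ideal.smul_eq_mul, Ideal.mul_top]
  intro x hx
  by_contra hxI
  obtain ⟨q, hq, hle⟩ := Ideal.exists_le_maximal ((Ideal.ofList (rs.take j)).colon {x}) (fun htop => hxI (by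
    have := (Ideal.eq_top_iff_one _).1 htop
    rw [Submodule.mem_colon_singleton, one_smul] at this
    exact this))
  haveI := hq
  obtain ⟨B', _, _, _, hB'⟩ := h q
  have h0 := hB'.regular_mod_prev j (by simpa using hj)
  simp only [List.getElem_map] at h0
  rw [isSMulRegular_quotient_iff_mem_of_smul_mem, Ideal.smul_eq_mul, Ideal.mul_top, ofList_take_map] at h0
  have h1 := h0 (algebraMap A B' x) (by
    rw [smul_eq_mul, ← map_mul]
    exact Ideal.mem_map_of_mem _ hx)
  rw [IsLocalization.algebraMap_mem_map_algebraMap_iff q.primeCompl] at h1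
  obtain ⟨t, ht, htx⟩ := h1
  exact ht (hle (Submodule.mem_colon_singleton.2 (by rwa [smul_eq_mul])))

/-- The obstruction to regularity at step `j`. -/
noncomputable abbrev obs (rs : List A) (j : Fin rs.length) : Submodule A (A ⧸ Ideal.ofList (rs.take j)) :=
  LinearMap.ker (LinearMap.mulLeft A (Ideal.Quotient.mk (Ideal.ofList (rs.take j)) rs[j.1]))

/-- Weak regularity in a flat algebra is the vanishing of the obstructions. -/
theorem isWeaklyRegular_map_iff {G : Type u} [CommRing G] [Algebra A G] [Module.Flat A G] (rs : List A) :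
    IsWeaklyRegular G (rs.map (algebraMap A G)) ↔ ∀ j, Subsingleton (G ⊗[A] obs rs j) := by
  have key : ∀ j : Fin rs.length,
      IsSMulRegular (G ⧸ (Ideal.ofList ((rs.map (algebraMap A G)).take j) • (⊤ : Submodule G G)))
        (algebraMap A G rs[j.1]) ↔ Subsingleton (G ⊗[A] obs rs j) := by
    intro j
    let I := Ideal.ofList (rs.take j)
    let m : (A ⧸ I) →ₗ[A] A ⧸ I := LinearMap.mulLeft A (Ideal.Quotient.mk I rs[j.1])
    let e : (G ⧸ I.map (algebraMap A G)) ≃ₐ[G] G ⊗[A] (A ⧸ I) :=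
      Algebra.TensorProduct.quotIdealMapEquivTensorQuot G I
    have hm : ∀ z, m.lTensor G z = algebraMap A G rs[j.1] • z := fun z => by
      induction z using TensorProduct.induction_on with
      | zero => simp
      | tmul a q =>
        rw [LinearMap.lTensor_tmul, TensorProduct.smul_tmul', algebraMap_smul, TensorProduct.smul_tmul]
        rfl
      | add a b ha hb => rw [map_add, smul_add, ha, hb]
    have h1 : IsSMulRegular (G ⧸ (Ideal.ofList ((rs.map (algebraMap A G)).take j) • (⊤ : Submodule G G)))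
        (algebraMap A G rs[j.1]) ↔ Function.Injective (m.lTensor G) := by
      have hI : Ideal.ofList ((rs.map (algebraMap A G)).take j) • (⊤ : Submodule G G) = I.map (algebraMap A G) := by
        rw [ofList_take_map, Ideal.smul_eq_mul, Ideal.mul_top]
      rw [hI]
      change Function.Injective _ ↔ _
      constructor
      · intro h z w hzw
        rw [hm, hm] at hzw
        obtain ⟨z', rfl⟩ := e.surjective z
        obtain ⟨w', rfl⟩ := e.surjective w
        rw [← map_smul e, ← map_smul e] at hzw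
        exact congrArg e (h (e.injective hzw))
      · intro h z w hzw
        apply e.injective
        apply h
        rw [hm, hm, ← map_smul e, ← map_smul e]
        exact congrArg e hzw
    rw [h1]
    have hex := Module.Flat.lTensor_exact G (LinearMap.exact_subtype_ker_map m)
    have hinj := Module.Flat.lTensor_preserves_injective_linearMap (M := G) (LinearMap.ker m).subtype Subtype.val_injective
    constructor
    · intro h
      refine ⟨fun a b => hinj (h ?_)⟩
      rw [show m.lTensor G _ = 0 from hex.apply_apply_eq_zero a, show m.lTensor G _ = 0 from hex.apply_apply_eq_zero b]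
    · intro h
      rw [injective_iff_map_eq_zero]
      intro z hz
      obtain ⟨a, rfl⟩ := (hex z).1 hz
      rw [Subsingleton.elim a 0, map_zero]
  constructor
  · intro h j
    have h0 := h.regular_mod_prev j.1 (by simpa using j.2)
    simp only [List.getElem_map] at h0
    exact (key j).1 h0
  · intro h
    refine ⟨fun j hj => ?_⟩
    simp only [List.getElem_map]
    exact (key ⟨j, by simpa using hj⟩).2 (h _)

/-- Descent along a faithfully flat algebra. -/
theorem isWeaklyRegular_of_faithfullyFlat {G : Type u} [CommRing G] [Algebra A G] [Module.FaithfullyFlat A G]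
    {rs : List A} (h : IsWeaklyRegular G (rs.map (algebraMap A G))) : IsWeaklyRegular A rs := by
  have h1 := (isWeaklyRegular_map_iff (G := G) rs).1 h
  rw [← List.map_id rs]
  refine (isWeaklyRegular_map_iff (G := A) rs).2 fun j => ?_
  haveI := h1 j
  haveI : Subsingleton (obs rs j) := Module.FaithfullyFlat.lTensor_reflects_triviality A G _
  exact (TensorProduct.lid A (obs rs j)).toEquiv.subsingleton

/-- The obstructions die at a finitely generated subalgebra. -/
theorem exists_fg_stage [IsNoetherianRing A] {G : Type u} [CommRing G] [Algebra A G] [Module.Flat A G]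
    {rs : List A} (h : IsWeaklyRegular G (rs.map (algebraMap A G))) :
    ∃ S : Subalgebra A G, S.FG ∧ ∀ (H : Type u) [CommRing H] [Algebra A H] [Module.Flat A H],
      (S →ₐ[A] H) → IsWeaklyRegular H (rs.map (algebraMap A H)) := by
  classical
  have h1 := (isWeaklyRegular_map_iff (G := G) rs).1 h
  have hS : ∀ (j : Fin rs.length), ∃ S : Subalgebra A G, S.FG ∧ ∀ (H : Type u) [CommRing H] [Algebra A H],
      (S →ₐ[A] H) → Subsingleton (H ⊗[A] obs rs j) := by
    intro j
    obtain ⟨gens, hgens⟩ := IsNoetherian.noetherian (⊤ : Submodule A (obs rs j))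
    have hk : ∀ k : obs rs j, ∃ S : Subalgebra A G, S.FG ∧ ∀ (H : Type u) [CommRing H] [Algebra A H],
        (S →ₐ[A] H) → (1 : H) ⊗ₜ[A] k = 0 := fun k => by
      haveI := h1 j
      obtain ⟨S, hle, hS, h0⟩ := exists_fg_eq_zero (R := A) (⊥ : Subalgebra A G) Subalgebra.fg_bot
        ((1 : (⊥ : Subalgebra A G)) ⊗ₜ[A] k) (Subsingleton.elim _ _)
      refine ⟨S, hS, fun H _ _ ψ => ?_⟩
      have h2 := congrArg (ψ.toLinearMap.rTensor (obs rs j)) h0
      simpa using h2
    choose S hSfg hSk using hk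
    refine ⟨gens.sup S, Finset.sup_induction (p := fun S : Subalgebra A G => S.FG) Subalgebra.fg_bot
      (fun _ ha _ hb => ha.sup hb) (fun k _ => hSfg k), fun H _ _ ψ => ?_⟩
    refine subsingleton_of_forall_eq 0 fun z => ?_
    induction z using TensorProduct.induction_on with
    | zero => rfl
    | add a b ha hb => rw [ha, hb, add_zero]
    | tmul a k =>
      have hk : k ∈ Submodule.span A (gens : Set (obs rs j)) := hgens ▸ Submodule.mem_top
      rw [← mul_one a, ← smul_eq_mul, ← TensorProduct.smul_tmul']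
      have h0 : (1 : H) ⊗ₜ[A] k = 0 := by
        induction hk using Submodule.span_induction with
        | mem x hx => exact hSk x H (ψ.comp (Subalgebra.inclusion (Finset.le_sup (f := S) hx)))
        | zero => rw [TensorProduct.tmul_zero]
        | add a b _ _ ha hb => rw [TensorProduct.tmul_add, ha, hb, add_zero]
        | smul c x _ hx => rw [TensorProduct.tmul_smul, hx, smul_zero]
      rw [h0, smul_zero]
  choose S hS hSsub using hS
  refine ⟨Finset.univ.sup S, Finset.sup_induction (p := fun S : Subalgebra A G => S.FG) Subalgebra.fg_bot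
    (fun _ ha _ hb => ha.sup hb) (fun j _ => hS j), fun H _ _ _ ψ => (isWeaklyRegular_map_iff (G := H) rs).2 fun j =>
      hSsub j H (ψ.comp (Subalgebra.inclusion (Finset.le_sup (f := S) (Finset.mem_univ j))))⟩

section Scheme

variable {T S₀ : Scheme.{u}}

/-- Restriction to an open. -/
noncomputable abbrev resL (fs : List Γ(T, ⊤)) (U : T.Opens) : List Γ(T, U) :=
  fs.map (fun f => (T.presheaf.map (homOfLE (le_top : U ≤ ⊤)).op).hom f)

/-- Weakly regular germs at a point. -/
def WRAt (fs : List Γ(T, ⊤)) (x : T) : Prop :=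
  IsWeaklyRegular (T.presheaf.stalk x) (fs.map (T.presheaf.germ ⊤ x trivial).hom)

/-- Weak regularity on an affine open is pointwise. -/
theorem wr_iff {U : T.Opens} (hU : IsAffineOpen U) (fs : List Γ(T, ⊤)) :
    IsWeaklyRegular Γ(T, U) (resL fs U) ↔ ∀ x ∈ U, WRAt fs x := by
  have hgerm : ∀ (x : T) (hx : x ∈ U), (resL fs U).map (T.presheaf.germ U x hx).hom =
      fs.map (T.presheaf.germ ⊤ x trivial).hom := fun x hx => by
    rw [List.map_map]
    exact List.map_congr_left fun f _ => T.presheaf.germ_res_apply (homOfLE (le_top : U ≤ ⊤)) x hx f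
  constructor
  · intro h x hx
    letI := T.presheaf.algebra_section_stalk ⟨x, hx⟩
    haveI : IsLocalization.AtPrime (T.presheaf.stalk x) (hU.primeIdealOf ⟨x, hx⟩).asIdeal :=
      hU.isLocalization_stalk ⟨x, hx⟩
    unfold WRAt
    rw [← hgerm x hx]
    exact IsWeaklyRegular.of_isLocalization (T.presheaf.stalk x) (hU.primeIdealOf ⟨x, hx⟩).asIdeal.primeCompl h
  · intro h
    refine isWeaklyRegular_of_forall_maximal fun q hq => ?_
    let y : PrimeSpectrum Γ(T, U) := ⟨q, inferInstance⟩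
    have hx : hU.fromSpec y ∈ U := hU.range_fromSpec.le ⟨y, rfl⟩
    letI := T.presheaf.algebra_section_stalk ⟨hU.fromSpec y, hx⟩
    refine ⟨T.presheaf.stalk (hU.fromSpec y), inferInstance, inferInstance, hU.isLocalization_stalk' y hx, ?_⟩
    have h1 := h _ hx
    unfold WRAt at h1
    rw [← hgerm _ hx] at h1
    exact h1

/-- The pulled back sections on the preimage of an open. -/
theorem resL_preimage (h : T ⟶ S₀) (fs : List Γ(S₀, ⊤)) (V₀ : S₀.Opens) :
    resL (fs.map fun f => h.appTop.hom f) (h ⁻¹ᵁ V₀) = (resL fs V₀).map (h.app V₀).hom := by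
  simp only [resL, List.map_map]
  exact List.map_congr_left fun f _ => (congr($(h.naturality (homOfLE (le_top : V₀ ≤ ⊤)).op) f)).symm

/-- Sections of a flat affine morphism over an affine open are flat. -/
theorem flat_app (g : T ⟶ S₀) [Flat g] [IsAffineHom g] {V₀ : S₀.Opens} (hV₀ : IsAffineOpen V₀) :
    @Module.Flat Γ(S₀, V₀) Γ(T, g ⁻¹ᵁ V₀) _ _ (g.app V₀).hom.toAlgebra.toModule := by
  have h1 := g.flat_appLE hV₀ (hV₀.preimage g) le_rfl
  rw [← Scheme.Hom.app_eq_appLE] at h1
  exact h1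

/-- Sections of a surjective flat affine morphism over an affine open are faithfully flat. -/
theorem faithfullyFlat_app (g : T ⟶ S₀) [Flat g] [IsAffineHom g] [Surjective g] {V₀ : S₀.Opens}
    (hV₀ : IsAffineOpen V₀) :
    @Module.FaithfullyFlat Γ(S₀, V₀) Γ(T, g ⁻¹ᵁ V₀) _ _ (g.app V₀).hom.toAlgebra.toModule := by
  letI := (g.app V₀).hom.toAlgebra
  haveI := flat_app g hV₀
  have hV : IsAffineOpen (g ⁻¹ᵁ V₀) := hV₀.preimage g
  refine Module.FaithfullyFlat.of_comap_surjective fun P => ?_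
  obtain ⟨x, hx⟩ := g.surjective (hV₀.fromSpec P)
  have hxV : x ∈ g ⁻¹ᵁ V₀ := by
    show g x ∈ V₀
    rw [hx, ← SetLike.mem_coe, ← hV₀.range_fromSpec]
    exact ⟨P, rfl⟩
  refine ⟨hV.primeIdealOf ⟨x, hxV⟩, ?_⟩
  have h1 := IsAffineOpen.comap_primeIdealOf_appLE V₀ hV₀ _ hV (le_refl (g ⁻¹ᵁ V₀)) hxV
  rw [← Scheme.Hom.app_eq_appLE] at h1
  refine h1.trans (hV₀.fromSpec.isOpenEmbedding.injective ?_)
  exact (hV₀.fromSpec_primeIdealOf ⟨g x, hxV⟩).trans hx

end Scheme

section Limit

variable {I : Type u} [SmallCategory I] [IsCofiltered I] {D : I ⥤ Scheme.{u}} {c : Cone D}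
  [∀ (i j : I) (f : i ⟶ j), IsAffineHom (D.map f)] {i₀ : I}

/-- A chart of weak regularity is attained at a stage. -/
theorem exists_chart_stage (hc : IsLimit c) (hflat : ∀ (i j : I) (f : i ⟶ j), Flat (D.map f))
    [Flat (c.π.app i₀)] {V₀ : (D.obj i₀).Opens} (hV₀ : IsAffineOpen V₀)
    (hcase : IsNoetherianRing Γ(D.obj i₀, V₀) ∨ Surjective (c.π.app i₀)) (rs : List Γ(D.obj i₀, V₀))
    (h : IsWeaklyRegular (R := Γ(c.pt, c.π.app i₀ ⁻¹ᵁ V₀)) Γ(c.pt, c.π.app i₀ ⁻¹ᵁ V₀)
      (rs.map ((c.π.app i₀).app V₀).hom)) :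
    ∃ j : Over i₀, IsWeaklyRegular Γ(D.obj j.left, D.map j.hom ⁻¹ᵁ V₀) (rs.map ((D.map j.hom).app V₀).hom) := by
  haveI : IsAffineHom (c.π.app i₀) := isAffineHom_π_app D c hc i₀
  letI : Algebra Γ(D.obj i₀, V₀) Γ(c.pt, c.π.app i₀ ⁻¹ᵁ V₀) := ((c.π.app i₀).app V₀).hom.toAlgebra
  haveI : Module.Flat Γ(D.obj i₀, V₀) Γ(c.pt, c.π.app i₀ ⁻¹ᵁ V₀) := flat_app (T := c.pt) (c.π.app i₀) hV₀
  rcases hcase with hN | hs
  · obtain ⟨S, hS, hH⟩ := exists_fg_stage h
    obtain ⟨j, ψ, -⟩ := Fibres16.LimCrit.exists_stage_algHom (R₀ := Γ(D.obj i₀, V₀)) hc hV₀ S hS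
    letI := ((D.map j.hom).app V₀).hom.toAlgebra
    haveI := hflat _ _ j.hom
    haveI : Module.Flat Γ(D.obj i₀, V₀) Γ(D.obj j.left, D.map j.hom ⁻¹ᵁ V₀) := flat_app (D.map j.hom) hV₀
    exact ⟨j, hH Γ(D.obj j.left, D.map j.hom ⁻¹ᵁ V₀) ψ⟩
  · haveI : Module.FaithfullyFlat Γ(D.obj i₀, V₀) Γ(c.pt, c.π.app i₀ ⁻¹ᵁ V₀) :=
      faithfullyFlat_app (T := c.pt) (c.π.app i₀) hV₀
    have h0 := isWeaklyRegular_of_faithfullyFlat (G := Γ(c.pt, c.π.app i₀ ⁻¹ᵁ V₀)) h
    refine ⟨Over.mk (𝟙 i₀), ?_⟩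
    haveI : Flat (D.map (Over.mk (𝟙 i₀)).hom) := hflat _ _ _
    letI := ((D.map (Over.mk (𝟙 i₀)).hom).app V₀).hom.toAlgebra
    haveI : Module.Flat Γ(D.obj i₀, V₀) Γ(D.obj (Over.mk (𝟙 i₀)).left, D.map (Over.mk (𝟙 i₀)).hom ⁻¹ᵁ V₀) :=
      flat_app (D.map (Over.mk (𝟙 i₀)).hom) hV₀
    exact h0.of_flat (S := Γ(D.obj (Over.mk (𝟙 i₀)).left, D.map (Over.mk (𝟙 i₀)).hom ⁻¹ᵁ V₀))

/-- Base change of a chart along flat maps. -/
theorem baseChange_chart {T T' S₀ : Scheme.{u}} {h : T ⟶ S₀} {h' : T' ⟶ S₀} [IsAffineHom h] [IsAffineHom h']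
    (t : T' ⟶ T) [Flat t] (ht : t ≫ h = h') {V₀ : S₀.Opens} (hV₀ : IsAffineOpen V₀) (rs : List Γ(S₀, V₀))
    (H : IsWeaklyRegular Γ(T, h ⁻¹ᵁ V₀) (rs.map (h.app V₀).hom)) :
    IsWeaklyRegular Γ(T', h' ⁻¹ᵁ V₀) (rs.map (h'.app V₀).hom) := by
  have et : h' ⁻¹ᵁ V₀ ≤ t ⁻¹ᵁ (h ⁻¹ᵁ V₀) := by subst ht; exact le_rfl
  letI := (t.appLE (h ⁻¹ᵁ V₀) (h' ⁻¹ᵁ V₀) et).hom.toAlgebra
  haveI : Module.Flat Γ(T, h ⁻¹ᵁ V₀) Γ(T', h' ⁻¹ᵁ V₀) := t.flat_appLE (hV₀.preimage h) (hV₀.preimage h') et
  have h1 := H.of_flat (S := Γ(T', h' ⁻¹ᵁ V₀))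
  rw [List.map_map] at h1
  convert h1 using 1
  refine List.map_congr_left fun f _ => ?_
  have key : h'.app V₀ = h.app V₀ ≫ t.appLE (h ⁻¹ᵁ V₀) (h' ⁻¹ᵁ V₀) et := by
    subst ht
    rw [Scheme.Hom.comp_app]
    simp [Scheme.Hom.appLE]
  exact congr($key f)

/-- Weakly regular sections along a flat limit. -/
theorem iff_exists_stage (hc : IsLimit c) (hflat : ∀ (i j : I) (f : i ⟶ j), Flat (D.map f))
    [Flat (c.π.app i₀)] [CompactSpace (D.obj i₀)]
    (hcase : IsLocallyNoetherian (D.obj i₀) ∨ Surjective (c.π.app i₀))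
    (hflat' : ∀ i, Flat (c.π.app i)) (fs : List Γ(D.obj i₀, ⊤)) :
    (∀ x, WRAt (fs.map fun f => (c.π.app i₀).appTop.hom f) x) ↔
      ∃ j : Over i₀, ∀ x, WRAt (fs.map fun f => (D.map j.hom).appTop.hom f) x := by
  classical
  haveI : IsAffineHom (c.π.app i₀) := isAffineHom_π_app D c hc i₀
  have hex : ∀ x : D.obj i₀, ∃ V₀ : (D.obj i₀).Opens, IsAffineOpen V₀ ∧ x ∈ V₀ := fun x => by
    obtain ⟨V₀, hV₀, hxV, -⟩ := exists_isAffineOpen_mem_and_subset (U := (⊤ : (D.obj i₀).Opens)) (x := x) trivial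
    exact ⟨V₀, hV₀, hxV⟩
  choose V hV hxV using hex
  obtain ⟨s, hs⟩ := isCompact_univ.elim_finite_subcover (fun x => (V x : Set (D.obj i₀))) (fun x => (V x).2)
    fun x _ => Set.mem_iUnion.2 ⟨x, hxV x⟩
  have hcov : ∀ y : D.obj i₀, ∃ x ∈ s, y ∈ V x := fun y => by
    obtain ⟨x, hx, hy⟩ := Set.mem_iUnion₂.1 (hs (Set.mem_univ y))
    exact ⟨x, hx, hy⟩
  constructor
  · intro h
    have hj : ∀ x, ∃ j : Over i₀, IsWeaklyRegular Γ(D.obj j.left, D.map j.hom ⁻¹ᵁ V x)
        ((resL fs (V x)).map ((D.map j.hom).app (V x)).hom) := fun x => by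
      refine exists_chart_stage hc hflat (hV x) (hcase.imp (fun hN => ?_) id) _ ?_
      · haveI := hN
        exact IsLocallyNoetherian.component_noetherian ⟨V x, hV x⟩
      · rw [← resL_preimage]
        exact (wr_iff ((hV x).preimage _) _).2 fun y _ => h y
    choose j hj using hj
    obtain ⟨k, hk⟩ := IsCofiltered.inf_objs_exists (s.image j)
    refine ⟨k, fun y => ?_⟩
    obtain ⟨x, hx, hy⟩ := hcov (D.map k.hom y)
    obtain ⟨φ⟩ := hk (Finset.mem_image_of_mem j hx)
    haveI := hflat _ _ φ.left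
    refine (wr_iff ((hV x).preimage (D.map k.hom)) _).1 ?_ y hy
    rw [resL_preimage]
    exact baseChange_chart (D.map φ.left) (by rw [← D.map_comp, Over.w φ]) (hV x) _ (hj x)
  · rintro ⟨j, h⟩ y
    obtain ⟨x, -, hy⟩ := hcov (c.π.app i₀ y)
    haveI := hflat' j.left
    refine (wr_iff ((hV x).preimage (c.π.app i₀)) _).1 ?_ y hy
    rw [resL_preimage]
    refine baseChange_chart (c.π.app j.left) (c.w j.hom) (hV x) _ ?_
    rw [← resL_preimage]
    exact (wr_iff ((hV x).preimage (D.map j.hom)) _).2 fun z _ => h z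

end Limit

end Groth.Agent.LimTR12.WeakReg
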